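import Mathlib.AlgebraicGeometry.Geometrically.Integral
import Mathlib.AlgebraicGeometry.Morphisms.Flat
import Mathlib.AlgebraicGeometry.ResidueField
import Mathlib.RingTheory.Flat.FaithfullyFlat.Algebra

/-!
Geometrically-`Q` descends along surjective base change, for `Q` closed under images of surjective
flat morphisms.
-/

universe u

open CategoryTheory CategoryTheory.Limits AlgebraicGeometry

namespace Groth.Agent.H52.FBase.Descend

/-- Two field-valued points over the same point of the base have a common field extension. -/
theorem exists_common_extension {Y Y' : Scheme.{u}} (g : Y' ⟶ Y) [Surjective g] (K : Type u)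
    [Field K] (σ : Spec (CommRingCat.of K) ⟶ Y) :
    ∃ (Ω : Type u) (_ : Field Ω) (_ : Algebra K Ω) (τ : Spec (CommRingCat.of Ω) ⟶ Y'),
      τ ≫ g = Spec.map (CommRingCat.ofHom (algebraMap K Ω)) ≫ σ := by
  obtain ⟨p, -⟩ := (pullback.snd g σ).surjective default
  let P := pullback g σ
  let ψ := P.fromSpecResidueField p ≫ pullback.snd g σ
  refine ⟨P.residueField p, inferInstance, (Spec.preimage ψ).hom.toAlgebra,
    P.fromSpecResidueField p ≫ pullback.fst g σ, ?_⟩
  have : CommRingCat.ofHom (Spec.preimage ψ).hom = Spec.preimage ψ := rfl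
  rw [RingHom.algebraMap_toAlgebra, this, Spec.map_preimage, Category.assoc, Category.assoc,
    pullback.condition]

instance flat_specMap_field (K Ω : Type u) [Field K] [Field Ω] [Algebra K Ω] :
    Flat (Spec.map (CommRingCat.ofHom (algebraMap K Ω))) := inferInstance

instance surjective_specMap_field (K Ω : Type u) [Field K] [Field Ω] [Algebra K Ω] :
    Surjective (Spec.map (CommRingCat.ofHom (algebraMap K Ω))) :=
  ⟨fun x => ⟨(default : PrimeSpectrum Ω), @Subsingleton.elim (PrimeSpectrum K) _ _ _⟩⟩

/-- `geometrically Q` descends along surjective base change. -/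
theorem geometrically_of_surjective {Q : ObjectProperty Scheme.{u}} [Q.IsClosedUnderIsomorphisms]
    (hQ : ∀ {A B : Scheme.{u}} (p : A ⟶ B) [Flat p] [Surjective p], Q A → Q B)
    {X Y Y' : Scheme.{u}} (f : X ⟶ Y) (g : Y' ⟶ Y) [Surjective g]
    (h : geometrically Q (pullback.snd f g)) : geometrically Q f := by
  rw [geometrically_iff_of_isClosedUnderIsomorphisms]
  intro K _ σ
  obtain ⟨Ω, _, _, τ, hτ⟩ := exists_common_extension g K σ
  have h1 : Q (pullback (pullback.snd f g) τ) := pullback_of_geometrically h Ω τ
  let e : pullback (pullback.snd f g) τ ≅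
      pullback (pullback.snd f σ) (Spec.map (CommRingCat.ofHom (algebraMap K Ω))) :=
    pullbackLeftPullbackSndIso f g τ ≪≫ pullback.congrHom rfl hτ ≪≫
      (pullbackLeftPullbackSndIso f σ _).symm
  exact hQ (pullback.fst (pullback.snd f σ) (Spec.map (CommRingCat.ofHom (algebraMap K Ω))))
    (Q.prop_of_iso e h1)

/-- Geometrically `Q` is insensitive to the extension of the base field. -/
theorem geometrically_bc_iff {Q : ObjectProperty Scheme.{u}} [Q.IsClosedUnderIsomorphisms]
    (hQ : ∀ {A B : Scheme.{u}} (p : A ⟶ B) [Flat p] [Surjective p], Q A → Q B)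
    {k K : Type u} [Field k] [Field K] [Algebra k K] {X : Scheme.{u}}
    (f : X ⟶ Spec (CommRingCat.of k)) :
    geometrically Q (pullback.snd f (Spec.map (CommRingCat.ofHom (algebraMap k K)))) ↔
      geometrically Q f :=
  ⟨geometrically_of_surjective hQ f _, fun h => MorphismProperty.pullback_snd _ _ h⟩

theorem isReduced_of_flat_surjective {A B : Scheme.{u}} (p : A ⟶ B) [Flat p] [Surjective p]
    (h : IsReduced A) : IsReduced B := by
  have (b : B) : _root_.IsReduced (B.presheaf.stalk b) := by
    obtain ⟨a, rfl⟩ := p.surjective b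
    have hf : (p.stalkMap a).hom.Flat := Flat.stalkMap p a
    refine isReduced_of_injective (p.stalkMap a).hom ?_
    algebraize [(p.stalkMap a).hom]
    have : IsLocalHom (algebraMap (B.presheaf.stalk (p a)) (A.presheaf.stalk a)) :=
      inferInstanceAs (IsLocalHom (p.stalkMap a).hom)
    have : Module.FaithfullyFlat (B.presheaf.stalk (p a)) (A.presheaf.stalk a) := .of_flat_of_isLocalHom
    exact FaithfulSMul.algebraMap_injective (B.presheaf.stalk (p a)) (A.presheaf.stalk a)
  exact isReduced_of_isReduced_stalk B

theorem irreducibleSpace_of_surjective {A B : Scheme.{u}} (p : A ⟶ B) [Surjective p]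
    (h : IrreducibleSpace A) : IrreducibleSpace B := by
  rw [irreducibleSpace_def] at h ⊢
  simpa [Set.image_univ, p.surjective.range_eq] using h.image p p.continuous.continuousOn

theorem isIntegral_of_flat_surjective {A B : Scheme.{u}} (p : A ⟶ B) [Flat p] [Surjective p]
    (h : IsIntegral A) : IsIntegral B := by
  rw [isIntegral_iff_irreducibleSpace_and_isReduced] at h ⊢
  exact ⟨irreducibleSpace_of_surjective p h.1, isReduced_of_flat_surjective p h.2⟩

theorem connectedSpace_of_surjective {A B : Scheme.{u}} (p : A ⟶ B) [Surjective p]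
    (h : ConnectedSpace A) : ConnectedSpace B :=
  p.surjective.connectedSpace p.continuous

end Groth.Agent.H52.FBase.Descend
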