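import Groth.Prelude.Def_FDesc
import Groth.Agent.Lib.GeomConn.Components
import Groth.Agent.H52.FBase.Descend

/-!
Connectedness of inverse images in base changes to field extensions.
-/

universe u

open CategoryTheory CategoryTheory.Limits AlgebraicGeometry
open Groth.Agent.Lib

namespace Groth.Agent.H52.FBase.Connected

variable {k : Type u} [Field k] {X : Scheme.{u}} (f : X ⟶ Spec (CommRingCat.of k))
  (K : Type u) [Field K] [Algebra k K]

theorem surjective_bcπ : Function.Surjective (FBase.bcπ f K) :=
  let _ : X.Over (Spec (CommRingCat.of k)) := ⟨f⟩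
  (Curv2.bcFst k X K).surjective

theorem isOpenMap_bcπ : IsOpenMap (FBase.bcπ f K) :=
  let _ : X.Over (Spec (CommRingCat.of k)) := ⟨f⟩
  GeomConn.Galois.isOpenMap_bcFst k X K

theorem image_connectedComponent (z : ↥(FBase.bc f K)) :
    FBase.bcπ f K '' connectedComponent z = connectedComponent (FBase.bcπ f K z) :=
  let _ : X.Over (Spec (CommRingCat.of k)) := ⟨f⟩
  GeomConn.Components.image_connectedComponent k X K z

theorem geometricallyIrreducible_bcπ [IsSepClosed k] : GeometricallyIrreducible (FBase.bcπ f K) :=
  let _ : X.Over (Spec (CommRingCat.of k)) := ⟨f⟩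
  GeomConn.Components.geometricallyIrreducible_bcFst k X K

theorem isIrreducible_preimage [IsSepClosed k] {Z : Set X} (hZ : IsIrreducible Z) :
    IsIrreducible (FBase.bcπ f K ⁻¹' Z) :=
  have := geometricallyIrreducible_bcπ f K
  (FBase.bcπ f K).isIrreducible_preimage (isOpenMap_bcπ f K) hZ

/-- Connected sets have connected preimage under an open map with connected fibres. -/
theorem isConnected_preimage_of_isOpenMap {A B : Type u} [TopologicalSpace A] [TopologicalSpace B]
    {p : A → B} (hc : Continuous p) (ho : IsOpenMap p) (hfib : ∀ b, _root_.IsConnected (p ⁻¹' {b}))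
    {S : Set B} (hS : _root_.IsConnected S) : _root_.IsConnected (p ⁻¹' S) := by
  let r := Set.restrictPreimage S p
  have hsurj : Function.Surjective r := fun b => by
    obtain ⟨a, ha⟩ := (hfib b.1).nonempty
    exact ⟨⟨a, by simpa [show p a = b.1 from ha] using b.2⟩, Subtype.ext ha⟩
  have hq := (ho.restrictPreimage S).isQuotientMap (hc.restrictPreimage) hsurj
  have : ConnectedSpace S := isConnected_iff_connectedSpace.mp hS
  have h := hq.isCoinducing.isConnected_preimage_of_isClosed (fun b => ?_) isClosed_univ
    (isConnected_univ (α := S))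
  · rw [Set.preimage_univ] at h
    rw [isConnected_iff_connectedSpace]
    exact connectedSpace_iff_univ.mpr h
  · obtain ⟨a, ha⟩ := hsurj b
    refine ⟨⟨a, ha⟩, ?_⟩
    rw [← Topology.IsInducing.subtypeVal.isPreconnected_image]
    convert (hfib b.1).2
    ext a
    constructor
    · rintro ⟨c, hc, rfl⟩; exact congrArg Subtype.val hc
    · intro ha; exact ⟨⟨a, by simpa [show p a = b.1 from ha] using b.2⟩, Subtype.ext ha, rfl⟩

theorem isConnected_preimage [IsSepClosed k] {Z : Set X} (hZ : _root_.IsConnected Z) :
    _root_.IsConnected (FBase.bcπ f K ⁻¹' Z) :=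
  have := geometricallyIrreducible_bcπ f K
  isConnected_preimage_of_isOpenMap (FBase.bcπ f K).continuous (isOpenMap_bcπ f K)
    (fun _ => ((FBase.bcπ f K).isIrreducible_preimage (isOpenMap_bcπ f K) isIrreducible_singleton).isConnected) hZ

/-- If a connected set of `X_K` contains the fibre over `x`, the inverse image of the component of
`x` is connected. -/
theorem isConnected_preimage_connectedComponent (x : X) {S : Set ↥(FBase.bc f K)}
    (hS : _root_.IsPreconnected S) (hfib : FBase.bcπ f K ⁻¹' {x} ⊆ S) :
    _root_.IsConnected (FBase.bcπ f K ⁻¹' connectedComponent x) := by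
  obtain ⟨z₀, hz₀⟩ := surjective_bcπ f K x
  suffices FBase.bcπ f K ⁻¹' connectedComponent x = connectedComponent z₀ by
    rw [this]; exact isConnected_connectedComponent
  refine Set.Subset.antisymm (fun z hz => ?_) (fun z hz => ?_)
  · have h1 : x ∈ FBase.bcπ f K '' connectedComponent z := by
      rw [image_connectedComponent, ← connectedComponent_eq hz]; exact mem_connectedComponent
    obtain ⟨z', hz', hz'x⟩ := h1
    have hz'0 : z' ∈ connectedComponent z₀ := hS.subset_connectedComponent (hfib hz₀) (hfib hz'x)
    rw [connectedComponent_eq hz'0, ← connectedComponent_eq hz']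
    exact mem_connectedComponent
  · have := (image_connectedComponent f K z₀).le ⟨z, hz, rfl⟩
    rwa [hz₀] at this

/-- A connected scheme with a point whose fibre in `X_K` lies in a connected set stays connected. -/
theorem connectedSpace_bc [ConnectedSpace X] (x : X) {S : Set ↥(FBase.bc f K)}
    (hS : _root_.IsPreconnected S) (hfib : FBase.bcπ f K ⁻¹' {x} ⊆ S) : ConnectedSpace ↥(FBase.bc f K) := by
  have := isConnected_preimage_connectedComponent f K x hS hfib
  rw [PreconnectedSpace.connectedComponent_eq_univ, Set.preimage_univ] at this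
  exact connectedSpace_iff_univ.mpr this

/-- The part of `X_K` over the image of a morphism `Y → X` with `Y_K` connected. -/
theorem exists_preconnected_of_hom {Y : Scheme.{u}} (h : Y ⟶ X)
    [ConnectedSpace ↥(FBase.bc (h ≫ f) K)] (y : Y) :
    ∃ S : Set ↥(FBase.bc f K), _root_.IsPreconnected S ∧ FBase.bcπ f K ⁻¹' {h y} ⊆ S := by
  let e : FBase.bc (h ≫ f) K ⟶ FBase.bc f K :=
    pullback.lift (FBase.bcπ (h ≫ f) K ≫ h) (FBase.bcStr (h ≫ f) K)
      ((Category.assoc _ _ _).trans pullback.condition)
  refine ⟨Set.range e, isPreconnected_range e.continuous, fun z hz => ?_⟩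
  have sq : IsPullback (pullback.fst (h ≫ f) (Spec.map (CommRingCat.ofHom (algebraMap k K)))) e h
      (FBase.bcπ f K) := by
    refine IsPullback.of_bot ?_ (pullback.lift_fst _ _ _).symm
      (IsPullback.of_hasPullback f (Spec.map (CommRingCat.ofHom (algebraMap k K))))
    convert IsPullback.of_hasPullback (h ≫ f) (Spec.map (CommRingCat.ofHom (algebraMap k K))) using 1
    exact pullback.lift_snd _ _ _
  obtain ⟨w, -, hw⟩ := Scheme.exists_preimage_of_isPullback sq y z (Eq.symm hz)
  exact ⟨w, hw⟩

end Groth.Agent.H52.FBase.Connected
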