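import Groth.Agent.H52.FBase.GeomRed
import Groth.Agent.H52.FBase.Descend

/-!
Geometrically reduced morphisms to the spectrum of a field.
-/

universe u

open CategoryTheory CategoryTheory.Limits AlgebraicGeometry TensorProduct

namespace Groth.Agent.H52.FBase.GeomRedSch

theorem geometricallyReduced_specMap (k A : Type u) [Field k] [CommRing A] [Algebra k A]
    [Algebra.IsGeometricallyReduced k A] :
    GeometricallyReduced (Spec.map (CommRingCat.ofHom (algebraMap k A))) := by
  refine ⟨?_⟩
  rw [geometrically_iff_of_isClosedUnderIsomorphisms]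
  intro K _ σ
  obtain ⟨φ, rfl⟩ := Spec.map_surjective σ
  let _ : Algebra k K := φ.hom.toAlgebra
  have : _root_.IsReduced (A ⊗[k] K) := GeomRed.isReduced_tensor
  have : IsReduced (Spec (CommRingCat.of (A ⊗[k] K))) := (affine_isReduced_iff _).mpr this
  exact isReduced_of_isOpenImmersion (pullbackSpecIso k A K).hom

theorem geometricallyReduced_of_perfectField {k : Type u} [Field k] [PerfectField k]
    {X : Scheme.{u}} (f : X ⟶ Spec (CommRingCat.of k)) [IsReduced X] : GeometricallyReduced f := by
  refine ⟨?_⟩
  rw [geometrically_iff_of_isClosedUnderIsomorphisms]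
  intro K _ σ
  obtain ⟨φ, rfl⟩ := Spec.map_surjective σ
  let _ : Algebra k K := φ.hom.toAlgebra
  have : Algebra.IsGeometricallyReduced k K := GeomRed.isGeometricallyReduced_of_perfectField
  have : GeometricallyReduced (Spec.map φ) := geometricallyReduced_specMap k K
  have := ReducedProd.isReduced_pullback (Spec.map φ) f
  exact isReduced_of_isOpenImmersion (pullbackSymmetry f (Spec.map φ)).hom

theorem geometricallyReduced_prod {k : Type u} [Field k] {X Y : Scheme.{u}}
    (f : X ⟶ Spec (CommRingCat.of k)) (g : Y ⟶ Spec (CommRingCat.of k)) [GeometricallyReduced f]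
    [GeometricallyReduced g] : GeometricallyReduced (pullback.fst f g ≫ f) := by
  refine ⟨?_⟩
  rw [geometrically_iff_of_isClosedUnderIsomorphisms]
  intro K _ σ
  have : IsReduced (pullback g σ) :=
    GeometricallyReduced.geometrically_isReduced _ _ _ (.of_hasPullback _ _)
  have := ReducedProd.isReduced_pullback f (pullback.fst g σ ≫ g)
  have h1 : IsReduced (pullback (pullback.snd f g ≫ g) σ) :=
    isReduced_of_isOpenImmersion (pullbackAssoc f g g σ).hom
  rw [pullback.condition]
  exact h1

end Groth.Agent.H52.FBase.GeomRedSch
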