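import Groth.Agent.Lib.Dim.FieldExt

/-!
Dimension of a minimal prime over an extended prime, for a field extension.
-/

universe u

open scoped TensorProduct

namespace Groth.Agent.H52.FBase.DimAlg

open Groth.Agent.Lib.Dim.Basic

variable {k K : Type u} [Field k] [Field K] [Algebra k K]

theorem dimQ_of_minimal (S : Type u) [CommRing S] [Algebra k S] [Algebra.FiniteType k S]
    (q : Ideal S) [q.IsPrime] (Q : Ideal (K ⊗[k] S))
    (hQ : Q ∈ (q.map (Algebra.TensorProduct.includeRight (R := k) (A := K) (B := S)).toRingHom).minimalPrimes) :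
    dimQ K Q = dimQ k q := by
  have hQp : Q.IsPrime := hQ.1.1
  let π : K ⊗[k] S →ₐ[K] K ⊗[k] (S ⧸ q) :=
    Algebra.TensorProduct.map (AlgHom.id K K) (Ideal.Quotient.mkₐ k q)
  have hπ : Function.Surjective π :=
    LinearMap.lTensor_surjective K (g := (Ideal.Quotient.mkₐ k q).toLinearMap) Ideal.Quotient.mk_surjective
  have hker : RingHom.ker π.toRingHom =
      q.map (Algebra.TensorProduct.includeRight (R := k) (A := K) (B := S)).toRingHom := by
    refine Eq.trans (Algebra.TensorProduct.lTensor_ker (Ideal.Quotient.mkₐ k q) Ideal.Quotient.mk_surjective) ?_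
    congr 1
    exact Ideal.Quotient.mkₐ_ker k q
  have hle : RingHom.ker π.toRingHom ≤ Q := hker.le.trans hQ.1.2
  have hmin : Q.map π.toRingHom ∈ minimalPrimes (K ⊗[k] (S ⧸ q)) := by
    refine ⟨⟨Ideal.map_isPrime_of_surjective hπ hle, bot_le⟩, fun R hR hRle => ?_⟩
    have : R.IsPrime := hR.1
    have h1 : R.comap π.toRingHom ≤ Q := by
      refine (Ideal.comap_mono hRle).trans ?_
      rw [Ideal.comap_map_of_surjective π.toRingHom hπ]
      exact sup_le le_rfl hle
    exact Ideal.map_le_iff_le_comap.mpr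
      (hQ.2 ⟨inferInstance, hker.ge.trans fun z hz => by
        rw [RingHom.mem_ker] at hz; rw [Ideal.mem_comap, hz]; exact zero_mem _⟩ h1)
  have h2 := Groth.Agent.Lib.Dim.FieldExt.dimQ_minimalPrimes_baseChange (S ⧸ q) _ hmin
  rw [show trdegNat k (S ⧸ q) = dimQ k q from rfl] at h2
  rw [← h2]
  have : (Q.map π.toRingHom).IsPrime := hmin.1.1
  have he : ringKrullDim ((K ⊗[k] S) ⧸ Q) = ringKrullDim ((K ⊗[k] (S ⧸ q)) ⧸ Q.map π.toRingHom) := by
    refine ringKrullDim_eq_of_ringEquiv (((Ideal.quotEquivOfEq ?_).trans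
      (RingHom.quotientKerEquivOfSurjective
        (f := (Ideal.Quotient.mk (Q.map π.toRingHom)).comp π.toRingHom)
        (Ideal.Quotient.mk_surjective.comp hπ))))
    rw [← RingHom.comap_ker, Ideal.mk_ker, Ideal.comap_map_of_surjective π.toRingHom hπ]
    exact (sup_eq_left.mpr hle).symm
  rw [ringKrullDim_quotient_prime K, ringKrullDim_quotient_prime K] at he
  exact_mod_cast he

end Groth.Agent.H52.FBase.DimAlg
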