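import Groth.Prelude.Def_FDesc
import Groth.Agent.H52.FBase.DimAlg
import Groth.Agent.Lib.PointDim.Basic
import Groth.Agent.Lib.Flat55.GenericPoints
import Groth.Agent.Lib.FibreDeg.Basic
import Mathlib.AlgebraicGeometry.Pullbacks
import Mathlib.AlgebraicGeometry.PullbackCarrier
import Mathlib.Topology.KrullDimension

/-!
Dimension of irreducible components and field extension.
-/

universe u

open CategoryTheory CategoryTheory.Limits AlgebraicGeometry TensorProduct
open Groth.Agent.Lib.PointDim.Basic Groth.Agent.Lib.Flat55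

namespace Groth.Agent.H52.FBase.DimBC

variable {k K : Type u} [Field k] [Field K] [Algebra k K] {X : Scheme.{u}}
  (f : X ⟶ Spec (CommRingCat.of k))

theorem flat_bcπ : Flat (_root_.FBase.bcπ f K) := by
  have : Flat (Spec.map (CommRingCat.ofHom (algebraMap k K))) := Groth.Agent.Lib.FibreDeg.Basic.flat_of_field _
  exact inferInstanceAs (Flat (pullback.fst f _))

theorem surjective_bcπ : Function.Surjective (_root_.FBase.bcπ f K) := by
  intro x
  obtain ⟨z, hz, -⟩ := Scheme.Pullback.exists_preimage_pullback (f := f)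
    (g := Spec.map (CommRingCat.ofHom (algebraMap k K))) x default (Subsingleton.elim _ _)
  exact ⟨z, hz⟩

variable [LocallyOfFiniteType f]

instance : LocallyOfFiniteType (_root_.FBase.bcStr f K) :=
  inferInstanceAs (LocallyOfFiniteType (pullback.snd f _))

/-- A point of `π⁻¹ (closure {ξ})` with no proper generization there lies over `ξ` and has the same
dimension. -/
theorem natTdeg_eq (η : ↥(_root_.FBase.bc f K)) (ξ : X) (hξ : ξ ⤳ _root_.FBase.bcπ f K η)
    (hmax : ∀ z, z ⤳ η → ξ ⤳ _root_.FBase.bcπ f K z → z = η) :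
    _root_.FBase.bcπ f K η = ξ ∧ natTdeg (_root_.FBase.bcStr f K) η = natTdeg f ξ := by
  have := flat_bcπ (K := K) f
  have hπη : _root_.FBase.bcπ f K η = ξ := by
    obtain ⟨z, hz, hz'⟩ := Flat.generalizingMap (_root_.FBase.bcπ f K) hξ
    rw [← hmax z hz (by rw [hz']), hz']
  refine ⟨hπη, ?_⟩
  obtain ⟨A, ι, hι, ⟨p, hp⟩, φ, hφ, hcomm⟩ := exists_chart f ξ
  let : Algebra k A := φ.hom.toAlgebra
  have : Algebra.FiniteType k A := hφ
  let σK := Spec.map (CommRingCat.ofHom (algebraMap k K))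
  let σA := Spec.map (CommRingCat.ofHom (algebraMap k A))
  let w : pullback σA σK ⟶ pullback f σK :=
    pullback.map σA σK f σK ι (𝟙 _) (𝟙 _) ((Category.comp_id _).trans hcomm.symm)
      ((Category.comp_id _).trans (Category.id_comp _).symm)
  have : IsOpenImmersion w := inferInstance
  let j : Spec (CommRingCat.of (K ⊗[k] A)) ⟶ _root_.FBase.bc f K :=
    (pullbackSpecIso k K A).inv ≫ (pullbackSymmetry σK σA).hom ≫ w
  have : IsOpenImmersion j := inferInstanceAs
    (IsOpenImmersion ((pullbackSpecIso k K A).inv ≫ (pullbackSymmetry σK σA).hom ≫ w))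
  have hw1 : w ≫ pullback.fst f σK = pullback.fst σA σK ≫ ι := pullback.lift_fst _ _ _
  have hw2 : w ≫ pullback.snd f σK = pullback.snd σA σK :=
    (pullback.lift_snd _ _ _).trans (Category.comp_id _)
  have hjπ : j ≫ _root_.FBase.bcπ f K = Spec.map (CommRingCat.ofHom
      (Algebra.TensorProduct.includeRight (R := k) (A := K) (B := A)).toRingHom) ≫ ι := by
    show ((pullbackSpecIso k K A).inv ≫ (pullbackSymmetry σK σA).hom ≫ w) ≫ pullback.fst f σK = _
    rw [Category.assoc, Category.assoc, hw1, pullbackSymmetry_hom_comp_fst_assoc]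
    erw [pullbackSpecIso_inv_snd_assoc]
    rfl
  have hjs : j ≫ _root_.FBase.bcStr f K =
      Spec.map (CommRingCat.ofHom (algebraMap K (K ⊗[k] A))) := by
    show ((pullbackSpecIso k K A).inv ≫ (pullbackSymmetry σK σA).hom ≫ w) ≫ pullback.snd f σK = _
    rw [Category.assoc, Category.assoc, hw2, pullbackSymmetry_hom_comp_snd]
    erw [pullbackSpecIso_inv_fst]
  obtain ⟨t, ht⟩ : η ∈ Set.range w := by
    erw [Scheme.Pullback.range_map]
    exact ⟨⟨p, hp.trans hπη.symm⟩, ⟨_, rfl⟩⟩
  obtain ⟨t', ht'⟩ := (pullbackSymmetry σK σA).hom.surjective t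
  obtain ⟨Q, hQ⟩ := (pullbackSpecIso k K A).inv.surjective t'
  have hjQ : j Q = η := by
    show w ((pullbackSymmetry σK σA).hom ((pullbackSpecIso k K A).inv Q)) = η
    rw [hQ, ht', ht]
  let inc := (Algebra.TensorProduct.includeRight (R := k) (A := K) (B := A)).toRingHom
  have hπj : ∀ R : PrimeSpectrum (K ⊗[k] A),
      _root_.FBase.bcπ f K (j R) = ι (PrimeSpectrum.comap inc R) := fun R =>
    congrArg (fun m : Spec (CommRingCat.of (K ⊗[k] A)) ⟶ X => m R) hjπ
  let QQ : PrimeSpectrum (K ⊗[k] A) := Q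
  have hQp : PrimeSpectrum.comap inc QQ = p :=
    ι.isOpenEmbedding.injective (by rw [← hπj QQ, show j QQ = η from hjQ, hπη, hp])
  have hmin : QQ.asIdeal ∈ (Ideal.map inc p.asIdeal).minimalPrimes := by
    refine ⟨⟨QQ.2, Ideal.map_le_iff_le_comap.mpr (congrArg PrimeSpectrum.asIdeal hQp).ge⟩,
      fun R hR hle => ?_⟩
    let RR : PrimeSpectrum (K ⊗[k] A) := ⟨R, hR.1⟩
    have h1 : j RR ⤳ η := by
      rw [← hjQ]
      exact ((PrimeSpectrum.le_iff_specializes RR QQ).mp hle).map j.continuous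
    have h2 : ξ ⤳ _root_.FBase.bcπ f K (j RR) := by
      rw [hπj, ← hp]
      exact ((PrimeSpectrum.le_iff_specializes p _).mp (Ideal.map_le_iff_le_comap.mp hR.2)).map ι.continuous
    have h3 : RR = QQ := j.isOpenEmbedding.injective ((hmax _ h1 h2).trans hjQ.symm)
    exact (congrArg PrimeSpectrum.asIdeal h3).ge
  have : p.asIdeal.IsPrime := p.2
  have hd := Groth.Agent.H52.FBase.DimAlg.dimQ_of_minimal A p.asIdeal QQ.asIdeal hmin
  have h1 : natTdeg f ξ = Groth.Agent.Lib.Dim.Basic.dimQ k p.asIdeal := by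
    rw [natTdeg, ← hp, tdeg_chart f ι φ hφ hcomm p, Cardinal.toNat_natCast]
  have hft : (CommRingCat.ofHom (algebraMap K (K ⊗[k] A))).hom.FiniteType :=
    RingHom.finiteType_algebraMap.mpr inferInstance
  have h2 := tdeg_chart (A := CommRingCat.of (K ⊗[k] A)) (_root_.FBase.bcStr f K) j
    (CommRingCat.ofHom (algebraMap K (K ⊗[k] A))) hft hjs QQ
  rw [natTdeg, ← hjQ, h2, Cardinal.toNat_natCast, h1]
  exact hd

theorem dim_component (Z : Set X) (hZc : IsClosed Z) (hZi : IsIrreducible Z)
    (η : ↥(_root_.FBase.bc f K)) (hη : _root_.FBase.bcπ f K η ∈ Z)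
    (hmax : ∀ z, z ⤳ η → _root_.FBase.bcπ f K z ∈ Z → z = η) :
    topologicalKrullDim ↥(closure ({η} : Set ↥(_root_.FBase.bc f K))) = topologicalKrullDim ↥Z := by
  obtain ⟨ξ, hξ⟩ := QuasiSober.sober hZi hZc
  obtain ⟨-, h⟩ := natTdeg_eq (K := K) f η ξ (hξ.specializes hη) fun z hz hz' =>
    hmax z hz (hz'.mem_closed hZc hξ.mem)
  rw [topologicalKrullDim_closure_singleton (_root_.FBase.bcStr f K), h,
    ← topologicalKrullDim_closure_singleton f, hξ.def]

theorem dim_component_preimage (Z : Set X) (hZc : IsClosed Z) (hZi : IsIrreducible Z)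
    (W : Set ↥(⇑(_root_.FBase.bcπ f K) ⁻¹' Z))
    (hW : W ∈ irreducibleComponents ↥(⇑(_root_.FBase.bcπ f K) ⁻¹' Z)) :
    topologicalKrullDim ↥W = topologicalKrullDim ↥Z := by
  let P := ⇑(_root_.FBase.bcπ f K) ⁻¹' Z
  have hP : IsClosed P := hZc.preimage (_root_.FBase.bcπ f K).continuous
  have hWc : IsClosed (Subtype.val '' W) :=
    hP.isClosedEmbedding_subtypeVal.isClosedMap _ (isClosed_of_mem_irreducibleComponents W hW)
  have hWi : IsIrreducible (Subtype.val '' W) := hW.1.image _ continuous_subtype_val.continuousOn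
  obtain ⟨η, hη⟩ := QuasiSober.sober hWi hWc
  obtain ⟨⟨η', hη'P⟩, hη'W, rfl⟩ := hη.mem
  have hmax : ∀ z, z ⤳ η' → _root_.FBase.bcπ f K z ∈ Z → z = η' := by
    intro z hz hzP
    let T : Set ↥P := closure {(⟨z, hzP⟩ : ↥P)}
    have hle : W ⊆ T := fun w hw => by
      have : w.1 ∈ closure ({η'} : Set ↥(_root_.FBase.bc f K)) := hη.def.ge ⟨w, hw, rfl⟩
      rw [closure_subtype, Set.image_singleton]
      exact (hz.trans (specializes_iff_mem_closure.mpr this)).mem_closure
    have h2 : (⟨z, hzP⟩ : ↥P) ∈ W := hW.2 isIrreducible_singleton.closure hle (subset_closure rfl)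
    exact (hz.antisymm (hη.specializes ⟨_, h2, rfl⟩)).eq
  rw [← dim_component f Z hZc hZi η' hη'P hmax,
    show closure ({η'} : Set ↥(_root_.FBase.bc f K)) = Subtype.val '' W from hη.def]
  exact IsHomeomorph.topologicalKrullDim_eq _
    (Homeomorph.isHomeomorph ((Topology.IsEmbedding.subtypeVal.homeomorphImage W)))

theorem image_dim_components :
    (fun Z : Set ↥(_root_.FBase.bc f K) => topologicalKrullDim ↥Z) ''
        irreducibleComponents ↥(_root_.FBase.bc f K) =
      (fun Z : Set ↥X => topologicalKrullDim ↥Z) '' irreducibleComponents ↥X := by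
  have := flat_bcπ (K := K) f
  ext d
  constructor
  · rintro ⟨_, hW, rfl⟩
    obtain ⟨η, hη, rfl⟩ := GenericPoints.exists_closure_eq hW
    refine ⟨_, GenericPoints.map_mem_of_flat (_root_.FBase.bcπ f K) hη, ?_⟩
    exact (dim_component f _ isClosed_closure isIrreducible_singleton.closure η (subset_closure rfl)
      fun z hz _ => GenericPoints.eq_of_specializes hη hz).symm
  · rintro ⟨_, hZ, rfl⟩
    obtain ⟨ξ, hξ, rfl⟩ := GenericPoints.exists_closure_eq hZ
    obtain ⟨z, rfl⟩ := surjective_bcπ (K := K) f ξ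
    obtain ⟨η, hη, hηz⟩ := GenericPoints.exists_specializes z
    refine ⟨closure {η}, hη, ?_⟩
    have h := GenericPoints.eq_of_specializes hξ (hηz.map (_root_.FBase.bcπ f K).continuous)
    refine dim_component f _ isClosed_closure isIrreducible_singleton.closure η ?_
      fun z hz _ => GenericPoints.eq_of_specializes hη hz
    rw [h]
    exact subset_closure rfl

end Groth.Agent.H52.FBase.DimBC
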