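import Groth.Agent.H52.FBase.TensorFields
import Mathlib.RingTheory.Flat.Basic
import Mathlib.RingTheory.Localization.AtPrime.Basic
import Mathlib.LinearAlgebra.Basis.VectorSpace
import Mathlib.Algebra.Module.Torsion.Basic
import Mathlib.LinearAlgebra.DirectSum.Finsupp

/-!
`A ⊗_k K` has no embedded primes when `A` is local with nilpotent maximal ideal.
-/

universe u

open TensorProduct

namespace Groth.Agent.H52.FBase.TensorPrimary

theorem isNilpotent_of_mul_eq_zero {A D : Type u} [CommRing A] [IsLocalRing A] [CommRing D]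
    [Algebra A D] [Module.Free A D] {N : ℕ} (hN : IsLocalRing.maximalIdeal A ^ N = ⊥)
    [IsDomain (D ⧸ (IsLocalRing.maximalIdeal A).map (algebraMap A D))]
    {d v : D} (h : d * v = 0) (hv : v ≠ 0) : IsNilpotent d := by
  classical
  set m := IsLocalRing.maximalIdeal A with hm
  let I : Ideal D := m.map (algebraMap A D)
  by_contra hd
  have hd' : Ideal.Quotient.mk I d ≠ 0 := by
    intro h0
    rw [Ideal.Quotient.eq_zero_iff_mem] at h0
    refine hd ⟨N, ?_⟩
    have : d ^ N ∈ I ^ N := Ideal.pow_mem_pow h0 N
    rwa [show I ^ N = ⊥ by rw [← Ideal.map_pow, hN, Ideal.map_bot], Ideal.mem_bot] at this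
  let e := Module.Free.chooseBasis A D
  -- a multiple of `v` killed by the maximal ideal
  have hex : ∃ n, ∀ a ∈ m ^ n, a • v = 0 := ⟨N, fun a ha => by
    rw [hN, Ideal.mem_bot] at ha; rw [ha, zero_smul]⟩
  obtain ⟨j, hj⟩ : ∃ j, Nat.find hex = j + 1 := by
    refine Nat.exists_eq_succ_of_ne_zero fun h0 => hv ?_
    have := Nat.find_spec hex 1 (by rw [h0, pow_zero, Ideal.one_eq_top]; trivial)
    simpa using this
  obtain ⟨a, ha, hav⟩ : ∃ a ∈ m ^ j, a • v ≠ 0 := by
    simpa only [not_forall, exists_prop] using Nat.find_min hex (show j < Nat.find hex by omega)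
  obtain ⟨w, hwdef⟩ : ∃ w, w = a • v := ⟨_, rfl⟩
  have hdw : d * w = 0 := by rw [hwdef, mul_smul_comm, h, smul_zero]
  rw [← hwdef] at hav
  have hmw : ∀ b ∈ m, ∀ i, b * e.repr w i = 0 := fun b hb i => by
    have h1 : (b * a) • v = 0 := Nat.find_spec hex _ (by
      rw [hj, pow_succ']; exact Ideal.mul_mem_mul hb ha)
    rw [mul_smul, ← hwdef] at h1
    simpa [map_smul] using congrArg (fun z => e.repr z i) h1
  let S : Submodule A A := Submodule.torsionBySet A A (m : Set A)
  have hS : ∀ i, e.repr w i ∈ S := fun i => by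
    rw [Submodule.mem_torsionBySet_iff]; exact fun b => hmw b.1 b.2 i
  obtain ⟨i0, hi0⟩ : ∃ i, e.repr w i ≠ 0 := by
    by_contra! h0
    exact hav (e.repr.injective (by ext i; simpa using h0 i))
  -- a functional on the socle with values in the residue field
  have hT : Module.IsTorsionBySet A S (m : Set A) := fun x b => by
    have := x.2; rw [Submodule.mem_torsionBySet_iff] at this; exact Subtype.ext (this b)
  let _ : Module (A ⧸ m) S := hT.module
  let _ : Field (A ⧸ m) := Ideal.Quotient.field m
  let s : _ → S := fun i => ⟨e.repr w i, hS i⟩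
  have hs0 : s i0 ≠ 0 := fun h0 => hi0 (congrArg Subtype.val h0)
  obtain ⟨φ, hφ⟩ := (LinearMap.toSpanSingleton (A ⧸ m) S (s i0)).exists_leftInverse_of_injective
    (LinearMap.ker_eq_bot.mpr (smul_left_injective _ hs0))
  have hφ0 : φ (s i0) = 1 := by simpa using LinearMap.congr_fun hφ 1
  have hsur : ∀ i, ∃ c, Ideal.Quotient.mk m c = φ (s i) := fun i => Ideal.Quotient.mk_surjective _
  choose c hc using hsur
  let w' : D := ∑ i ∈ (e.repr w).support, c i • e i
  have hw'n : Ideal.Quotient.mk I w' ≠ 0 := by
    rw [Ne, Ideal.Quotient.eq_zero_iff_mem]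
    intro h0
    have hcoord : ∀ z ∈ m • (⊤ : Submodule A D), e.repr z i0 ∈ m := by
      intro z hz
      refine Submodule.smul_induction_on hz (fun b hb y _ => ?_) fun y y' hy hy' => ?_
      · rw [map_smul, Finsupp.smul_apply, smul_eq_mul]; exact Ideal.mul_mem_right _ _ hb
      · rw [map_add, Finsupp.add_apply]; exact add_mem hy hy'
    have h1 := hcoord w' (by rw [Ideal.smul_top_eq_map]; exact h0)
    have h2 : e.repr w' i0 = c i0 := by
      simp only [w', map_sum, map_smul, Module.Basis.repr_self, Finsupp.smul_single, smul_eq_mul,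
        mul_one, Finsupp.finsetSum_apply]
      rw [Finset.sum_eq_single i0 (fun b _ hb => by rw [Finsupp.single_eq_of_ne (Ne.symm hb)])
        (fun hb => absurd (Finsupp.mem_support_iff.mpr hi0) hb), Finsupp.single_eq_same]
    rw [h2, ← Ideal.Quotient.eq_zero_iff_mem, hc, hφ0] at h1
    exact one_ne_zero h1
  have hdw' : d * w' ∈ I := by
    have hl : ∀ l, ∑ i ∈ (e.repr w).support, e.repr (d * e i) l • s i = 0 := by
      intro l
      apply Subtype.ext
      have := congrArg (fun z => e.repr (d * z) l) (e.linearCombination_repr w)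
      simp only [hdw, map_zero, Finsupp.zero_apply, Finsupp.linearCombination_apply, Finsupp.sum,
        Finset.mul_sum, mul_smul_comm, map_sum, map_smul, Finsupp.finsetSum_apply, Finsupp.smul_apply,
        smul_eq_mul] at this
      simp only [AddSubmonoidClass.coe_finsetSum, Submodule.coe_smul, s, smul_eq_mul, ZeroMemClass.coe_zero]
      rw [← this]
      exact Finset.sum_congr rfl fun i _ => mul_comm _ _
    have hl' : ∀ l, e.repr (d * w') l ∈ m := by
      intro l
      rw [← Ideal.Quotient.eq_zero_iff_mem]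
      have := congrArg φ (hl l)
      simp only [map_sum, map_zero, ← hT.mk_smul, map_smul, smul_eq_mul, ← hc, ← map_mul] at this
      simp only [w', Finset.mul_sum, mul_smul_comm, map_sum, map_smul, Finsupp.finsetSum_apply,
        Finsupp.smul_apply, smul_eq_mul]
      rw [← this]
      exact Finset.sum_congr rfl fun i _ => by rw [mul_comm]
    rw [← e.linearCombination_repr (d * w'), Finsupp.linearCombination_apply]
    exact sum_mem fun l _ => by
      show _ • _ ∈ I
      rw [Algebra.smul_def]; exact Ideal.mul_mem_right _ _ (Ideal.mem_map_of_mem _ (hl' l))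
  rw [← Ideal.Quotient.eq_zero_iff_mem, map_mul] at hdw'
  exact mul_ne_zero hd' hw'n hdw'

theorem mem_minimalPrimes {D R : Type u} [CommRing D] [CommRing R] (g : D →+* R) (hg : g.IsIntegral)
    (hnzd : ∀ d, ¬ IsNilpotent d → ∀ v, g d * v = 0 → v = 0) (q : Ideal R) [q.IsPrime]
    (h : IsAssociatedPrime (IsLocalRing.maximalIdeal (Localization.AtPrime q)) (Localization.AtPrime q)) :
    q ∈ minimalPrimes R := by
  algebraize [g]
  have hint : Algebra.IsIntegral D R := ⟨hg⟩
  obtain ⟨hprime, v, hv⟩ := h
  let T := Localization.AtPrime q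
  obtain ⟨⟨r, s⟩, hrs⟩ := IsLocalization.surj q.primeCompl v
  have hr0 : algebraMap R T r ≠ 0 := by
    intro h0
    rw [← hrs, (IsLocalization.map_units T s).mul_left_eq_zero] at h0
    exact hprime.ne_top (eq_top_iff.mpr fun z _ => by
      rw [hv]
      exact Ideal.le_radical (Submodule.mem_colon_singleton.mpr (by simp [h0])))
  have hbot : q.comap (algebraMap D R) ≤ nilradical D := by
    intro d hd
    rw [Ideal.mem_comap] at hd
    by_contra hdn
    rw [mem_nilradical] at hdn
    have hmem : algebraMap R T (algebraMap D R d) ∈ IsLocalRing.maximalIdeal T :=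
      (IsLocalization.AtPrime.to_map_mem_maximal_iff T q _).mpr hd
    rw [hv, Ideal.mem_radical_iff] at hmem
    obtain ⟨n, hn⟩ := hmem
    rw [Submodule.mem_colon_singleton, Submodule.mem_bot, smul_eq_mul] at hn
    have h0 : algebraMap R T (algebraMap D R (d ^ n) * r) = 0 := by
      rw [map_mul, map_pow, map_pow, ← hrs, ← mul_assoc, hn, zero_mul]
    obtain ⟨c, hc⟩ := (IsLocalization.map_eq_zero_iff q.primeCompl T _).mp h0
    have := hnzd (d ^ n) (fun hh => hdn (by
      obtain ⟨e, he⟩ := hh
      exact ⟨n * e, by rw [pow_mul]; exact he⟩)) ((c : R) * r) (by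
      rw [mul_left_comm]; exact hc)
    exact hr0 ((IsLocalization.map_eq_zero_iff q.primeCompl T r).mpr ⟨c, this⟩)
  refine ⟨⟨inferInstance, bot_le⟩, fun p hp hle => ?_⟩
  have := hp.1
  by_contra hne
  have hlt : p < q := lt_of_le_of_ne hle fun h => hne h.ge
  obtain ⟨z, hzq, hzp⟩ := SetLike.exists_of_lt hlt
  have hlt' := Ideal.comap_lt_comap_of_integral_mem_sdiff (R := D) hle ⟨hzq, hzp⟩
    (Algebra.IsIntegral.isIntegral z)
  exact absurd ((hlt'.trans_le hbot).trans_le (nilradical_le_prime _)) (lt_irrefl _)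

theorem minimalPrimes_tensor_field_aux {k A K F : Type u} [Field k] [CommRing A] [IsLocalRing A]
    [Field K] [Field F] [Algebra k A] [Algebra k K] [Algebra k F] [Algebra F K] [IsScalarTower k F K]
    [Algebra.IsAlgebraic F K] {N : ℕ} (hN : IsLocalRing.maximalIdeal A ^ N = ⊥)
    (hdom : IsDomain (F ⊗[k] (A ⧸ IsLocalRing.maximalIdeal A)))
    (q : Ideal (A ⊗[k] K)) [q.IsPrime]
    (h : IsAssociatedPrime (IsLocalRing.maximalIdeal (Localization.AtPrime q)) (Localization.AtPrime q)) :
    q ∈ minimalPrimes (A ⊗[k] K) := by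
  let g : A ⊗[k] F →ₐ[A] A ⊗[k] K :=
    Algebra.TensorProduct.map (AlgHom.id A A) (IsScalarTower.toAlgHom k F K)
  let m := IsLocalRing.maximalIdeal A
  have : IsDomain ((A ⊗[k] F) ⧸ m.map (algebraMap A (A ⊗[k] F))) := by
    let e := ((Algebra.TensorProduct.quotIdealMapEquivTensorQuot (A ⊗[k] F) m).toRingEquiv.trans
      (Algebra.TensorProduct.comm A (A ⊗[k] F) (A ⧸ m)).toRingEquiv).trans
      ((Algebra.TensorProduct.cancelBaseChange k A (A ⧸ m) (A ⧸ m) F).toRingEquiv.trans
        (Algebra.TensorProduct.comm k (A ⧸ m) F).toRingEquiv)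
    exact e.injective.isDomain e.toRingHom
  refine mem_minimalPrimes g.toRingHom ?_ ?_ q h
  · intro z
    induction z using TensorProduct.induction_on with
    | zero => exact g.toRingHom.isIntegralElem_zero
    | tmul a x =>
      let _ : Algebra (A ⊗[k] F) (A ⊗[k] K) := g.toRingHom.toAlgebra
      have hx : IsIntegral (A ⊗[k] F) ((1 : A) ⊗ₜ[k] x) := by
        obtain ⟨p, hp, hpx⟩ := Algebra.IsIntegral.isIntegral (R := F) x
        refine ⟨p.map (Algebra.TensorProduct.includeRight : F →ₐ[k] A ⊗[k] F).toRingHom, hp.map _, ?_⟩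
        rw [Polynomial.eval₂_map]
        have hc : (algebraMap (A ⊗[k] F) (A ⊗[k] K)).comp
            (Algebra.TensorProduct.includeRight : F →ₐ[k] A ⊗[k] F).toRingHom =
            (Algebra.TensorProduct.includeRight : K →ₐ[k] A ⊗[k] K).toRingHom.comp (algebraMap F K) := by
          ext c; simp [RingHom.algebraMap_toAlgebra, g]
        rw [hc]
        have := congrArg (Algebra.TensorProduct.includeRight : K →ₐ[k] A ⊗[k] K).toRingHom hpx
        rw [Polynomial.hom_eval₂, map_zero] at this
        exact this
      have ha : IsIntegral (A ⊗[k] F) (a ⊗ₜ[k] (1 : K)) := by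
        have : a ⊗ₜ[k] (1 : K) = algebraMap (A ⊗[k] F) (A ⊗[k] K) (a ⊗ₜ[k] 1) := by
          simp [RingHom.algebraMap_toAlgebra, g]
        rw [this]; exact isIntegral_algebraMap
      have := ha.mul hx
      rw [Algebra.TensorProduct.tmul_mul_tmul, mul_one, one_mul] at this
      exact this
    | add a b ha hb => exact RingHom.IsIntegralElem.add g.toRingHom ha hb
  · intro d hd v hdv
    classical
    let e := Module.Free.chooseBasis F K
    let Φ : A ⊗[k] K ≃ₗ[A] _ →₀ A ⊗[k] F :=
      (AlgebraTensorModule.congr (LinearEquiv.refl A A) (e.repr.restrictScalars k)).trans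
        (TensorProduct.finsuppRight k A A F _)
    have hΦ : ∀ d z i, Φ (g d * z) i = d * Φ z i := by
      clear hd hdv d
      intro d z i
      induction z using TensorProduct.induction_on with
      | zero => simp
      | tmul a' x =>
        induction d using TensorProduct.induction_on with
        | zero => simp
        | tmul a c =>
          simp only [Φ, g, Algebra.TensorProduct.map_tmul, AlgHom.coe_id, id_eq,
            IsScalarTower.coe_toAlgHom', Algebra.TensorProduct.tmul_mul_tmul, LinearEquiv.trans_apply,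
            AlgebraTensorModule.congr_tmul, LinearEquiv.refl_apply, LinearEquiv.restrictScalars_apply,
            TensorProduct.finsuppRight_apply_tmul_apply, ← Algebra.smul_def, map_smul,
            Finsupp.smul_apply, smul_eq_mul]
        | add d d' h h' => simp only [map_add, add_mul, Finsupp.add_apply, h, h']
      | add z z' h h' => simp only [map_add, mul_add, Finsupp.add_apply, h, h']
    refine Φ.injective (Finsupp.ext fun i => ?_)
    rw [map_zero, Finsupp.zero_apply]
    by_contra hne
    refine hd (isNilpotent_of_mul_eq_zero hN ?_ hne)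
    rw [← hΦ, show g d * v = 0 from hdv, map_zero, Finsupp.zero_apply]


theorem minimalPrimes_tensor_field {k A K : Type u} [Field k] [CommRing A] [IsLocalRing A]
    [Field K] [Algebra k A] [Algebra k K] {N : ℕ} (hN : IsLocalRing.maximalIdeal A ^ N = ⊥)
    (q : Ideal (A ⊗[k] K)) [q.IsPrime]
    (h : IsAssociatedPrime (IsLocalRing.maximalIdeal (Localization.AtPrime q)) (Localization.AtPrime q)) :
    q ∈ minimalPrimes (A ⊗[k] K) := by
  obtain ⟨s, hs⟩ := exists_isTranscendenceBasis k K
  have := hs.isAlgebraic_field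
  let _ : Field (A ⧸ IsLocalRing.maximalIdeal A) := Ideal.Quotient.field _
  exact minimalPrimes_tensor_field_aux (F := IntermediateField.adjoin k (Set.range (Subtype.val : s → K)))
    hN (TensorFields.isDomain_adjoin_tensor hs.1 (A ⧸ IsLocalRing.maximalIdeal A)) q h

end Groth.Agent.H52.FBase.TensorPrimary
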