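import Groth.Agent.H52.FBase.StalkBC
import Groth.Agent.H52.FBase.TensorPrimary
import Groth.Agent.Lib.TensorMod.QCohInv
import Groth.Agent.Lib.AssPt.Basic
import Groth.Agent.Lib.StalkLoc.AssStalk
import Groth.Agent.Lib.Flat55.GenericPoints
import Groth.Agent.Lib.FibreDeg.Basic
import Mathlib.RingTheory.Ideal.AssociatedPrime.Finiteness

/-!
Embedded points of the structure sheaf, generic points and base change to a field extension.
-/

universe u

open CategoryTheory CategoryTheory.Limits AlgebraicGeometry TensorProduct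
open Groth.Agent.Lib.AssPt.Basic Groth.Agent.Lib.Flat55

namespace Groth.Agent.H52.FBase.NoEmb

theorem maxAssoc_iff {R : Type*} [CommRing R] [IsLocalRing R] :
    MaxAssoc R ↔ ∃ v : R, v ≠ 0 ∧ ∀ a ∈ IsLocalRing.maximalIdeal R, ∃ n, a ^ n * v = 0 := by
  have hmem : ∀ (v a : R), a ∈ ((⊥ : Submodule R R).colon {v}).radical ↔ ∃ n, a ^ n * v = 0 :=
    fun v a => by simp only [Ideal.mem_radical_iff, Submodule.mem_colon_singleton, Submodule.mem_bot,
      smul_eq_mul]
  constructor
  · rintro ⟨hp, v, hv⟩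
    refine ⟨v, ?_, fun a ha => (hmem v a).mp (hv ▸ ha)⟩
    rintro rfl
    exact hp.ne_top (eq_top_iff.mpr fun z _ => by rw [hv, hmem]; exact ⟨0, mul_zero _⟩)
  · rintro ⟨v, hv, h⟩
    refine ⟨inferInstance, v, le_antisymm (fun a ha => (hmem v a).mpr (h a ha))
      (IsLocalRing.le_maximalIdeal fun ht => hv ?_)⟩
    obtain ⟨n, hn⟩ := (hmem v 1).mp (ht ▸ Submodule.mem_top)
    simpa using hn

theorem maxAssoc_of_ringEquiv {R S : Type*} [CommRing R] [IsLocalRing R] [CommRing S]
    [IsLocalRing S] (e : R ≃+* S) (h : MaxAssoc R) : MaxAssoc S := by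
  obtain ⟨v, hv, h⟩ := maxAssoc_iff.mp h
  refine maxAssoc_iff.mpr ⟨e v, (map_ne_zero_iff e e.injective).mpr hv, fun a ha => ?_⟩
  have : e.symm a ∈ IsLocalRing.maximalIdeal R := fun hu => ha (by simpa using hu.map e)
  obtain ⟨n, hn⟩ := h _ this
  refine ⟨n, ?_⟩
  simpa using congrArg e hn

theorem maxAssoc_of_flat {R S : Type u} [CommRing R] [IsLocalRing R] [IsNoetherianRing R]
    [CommRing S] [IsLocalRing S] [Algebra R S] [Module.Flat R S] [IsLocalHom (algebraMap R S)]
    (h : MaxAssoc S) : MaxAssoc R := by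
  obtain ⟨v, hv, hann⟩ := maxAssoc_iff.mp h
  have hzd : ∀ a ∈ IsLocalRing.maximalIdeal R, a ∈ ⋃ p ∈ associatedPrimes R R, (p : Set R) := by
    intro a ha
    rw [biUnion_associatedPrimes_eq_zero_divisors]
    by_contra hreg
    simp only [Set.mem_setOf_eq, not_exists, not_and, smul_eq_mul] at hreg
    have hr : Function.Injective (LinearMap.mul R R a) := by
      rw [injective_iff_map_eq_zero]
      intro z hz
      by_contra hne
      exact hreg z hne hz
    have hr' : Function.Injective ((LinearMap.mul R R a).lTensor S) :=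
      Module.Flat.lTensor_preserves_injective_linearMap _ hr
    have hinj : ∀ z : S, algebraMap R S a * z = 0 → z = 0 := by
      intro z hz
      have e : (TensorProduct.rid R S) ((LinearMap.mul R R a).lTensor S (z ⊗ₜ[R] 1)) = 0 := by
        rw [LinearMap.lTensor_tmul, TensorProduct.rid_tmul, LinearMap.mul_apply', mul_one,
          Algebra.smul_def]
        exact hz
      have := (injective_iff_map_eq_zero _).mp hr' _ ((LinearEquiv.map_eq_zero_iff _).mp e)
      have := congrArg (TensorProduct.rid R S) this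
      simpa using this
    obtain ⟨n, hn⟩ := hann (algebraMap R S a)
      (fun hu => ha (isUnit_of_map_unit (algebraMap R S) a hu))
    clear hann
    induction n with
    | zero => exact hv (by simpa using hn)
    | succ n ih => exact ih (hinj _ (by rw [← mul_assoc, ← pow_succ']; exact hn))
  obtain ⟨P, hP, hle⟩ := (Ideal.subset_union_prime_finite (associatedPrimes.finite R R)
    (f := fun p => p) (IsLocalRing.maximalIdeal R) (IsLocalRing.maximalIdeal R)
    fun p hp _ _ => hp.1).mp hzd
  obtain rfl := le_antisymm hle (IsLocalRing.le_maximalIdeal hP.1.ne_top)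
  exact hP

theorem maxAssoc_of_flat_of_radical {R S : Type u} [CommRing R] [IsLocalRing R] [CommRing S]
    [IsLocalRing S] [Algebra R S] [Module.Flat R S] [IsLocalHom (algebraMap R S)]
    (hrad : IsLocalRing.maximalIdeal S ≤
      ((IsLocalRing.maximalIdeal R).map (algebraMap R S)).radical)
    (h : MaxAssoc R) : MaxAssoc S := by
  obtain ⟨v, hv, hann⟩ := maxAssoc_iff.mp h
  have : Module.FaithfullyFlat R S := .of_flat_of_isLocalHom
  refine maxAssoc_iff.mpr ⟨algebraMap R S v,
    (map_ne_zero_iff _ (FaithfulSMul.algebraMap_injective R S)).mpr hv, fun a ha => ?_⟩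
  let J : Ideal S := ((⊥ : Submodule S S).colon {algebraMap R S v})
  have hle : (IsLocalRing.maximalIdeal R).map (algebraMap R S) ≤ J.radical := by
    rw [Ideal.map_le_iff_le_comap]
    intro b hb
    obtain ⟨n, hn⟩ := hann b hb
    refine ⟨n, ?_⟩
    rw [Submodule.mem_colon_singleton, Submodule.mem_bot, smul_eq_mul, ← map_pow, ← map_mul, hn,
      map_zero]
  have := (Ideal.radical_mono hle).trans (Ideal.radical_idem J).le (hrad ha)
  obtain ⟨n, hn⟩ := this
  exact ⟨n, by simpa [J, Submodule.mem_colon_singleton] using hn⟩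

theorem mem_genericPoints_iff {X : Scheme.{u}} (z : X) :
    z ∈ genericPoints X ↔ ∀ a ∈ IsLocalRing.maximalIdeal (X.presheaf.stalk z), IsNilpotent a := by
  constructor
  · intro hz a ha
    rw [← mem_nilradical, nilradical_eq_sInf, Submodule.mem_sInf]
    intro P hP
    have := GenericPoints.eq_of_specializes hz
      ((Scheme.range_fromSpecStalk (X := X) (x := z)).le ⟨(⟨P, hP⟩ : Spec (X.presheaf.stalk z)), rfl⟩)
    exact ((Groth.Agent.Lib.StalkLoc.AssStalk.closedPoint_eq_iff _).mp this).ge ha
  · intro h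
    refine GenericPoints.mem_of_forall_specializes fun y hy => ?_
    obtain ⟨P, rfl⟩ := (Scheme.range_fromSpecStalk (X := X) (x := z)).ge hy
    exact (Groth.Agent.Lib.StalkLoc.AssStalk.closedPoint_eq_iff _).mpr
      (le_antisymm (IsLocalRing.le_maximalIdeal P.2.ne_top) fun a ha => P.2.radical_le_iff.mpr bot_le (show a ∈ nilradical _ from h a ha))

theorem mem_genericPoints_of_minimal {X : Scheme.{u}} (z : X) {R : Type u} [CommRing R]
    (q : Ideal R) [q.IsPrime] (e : X.presheaf.stalk z ≃+* Localization.AtPrime q)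
    (hq : q ∈ minimalPrimes R) : z ∈ genericPoints X := by
  rw [mem_genericPoints_iff]
  intro a ha
  rw [← IsNilpotent.map_iff e.injective, ← mem_nilradical, nilradical_eq_sInf, Submodule.mem_sInf]
  rintro (P : Ideal (Localization.AtPrime q)) hP
  have hP' : P.IsPrime := hP
  have hm : e a ∈ IsLocalRing.maximalIdeal (Localization.AtPrime q) :=
    fun hu => ha (by simpa using hu.map e.symm)
  rw [← IsLocalization.AtPrime.map_eq_maximalIdeal q] at hm
  refine (Ideal.map_le_iff_le_comap.mpr ?_) hm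
  refine hq.2 ⟨hP'.under _, bot_le⟩ ?_
  exact (Ideal.comap_mono (IsLocalRing.le_maximalIdeal hP'.ne_top)).trans
    (IsLocalization.AtPrime.under_maximalIdeal _ q).le

theorem exists_pow_eq_bot {R : Type*} [CommRing R] [IsNoetherianRing R] [IsLocalRing R]
    (h : ∀ a ∈ IsLocalRing.maximalIdeal R, IsNilpotent a) :
    ∃ N, IsLocalRing.maximalIdeal R ^ N = ⊥ := by
  obtain ⟨N, hN⟩ := IsNoetherianRing.isNilpotent_nilradical R
  refine ⟨N, ?_⟩
  rw [le_antisymm h (nilradical_le_prime _)]
  exact hN

theorem noEmbedded_iff {X : Scheme.{u}} [IsLocallyNoetherian X] :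
    AssSch.NoEmbedded (Coh.structureModule X) ↔
      ∀ x : X, MaxAssoc (X.presheaf.stalk x) → x ∈ genericPoints X := by
  have hq : (Coh.structureModule X).IsQuasicoherent :=
    Groth.Agent.Lib.TensorMod.QCohInv.isQCoh_structureModule X
  constructor
  · intro h y hy
    obtain ⟨η, hη, hηy⟩ := GenericPoints.exists_specializes y
    have hnt : Nontrivial ((Coh.structureModule X).presheaf.stalk η) :=
      (unitStalkEquiv η).symm.toEquiv.nontrivial
    obtain ⟨z, hz, hzη⟩ := Groth.Agent.Lib.StalkLoc.AssStalk.exists_ass_specializes hnt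
    obtain rfl := GenericPoints.eq_of_specializes hη hzη
    obtain rfl : y = z := h y ((isAssPoint_structure_iff y).mpr hy) z hz hηy
    exact hη
  · intro h x hx y _ hyx
    exact (GenericPoints.eq_of_specializes (h x ((isAssPoint_structure_iff x).mp hx)) hyx).symm

theorem maxAssoc_map_of_flat {X Y : Scheme.{u}} [IsLocallyNoetherian Y] (f : X ⟶ Y) [Flat f]
    (z : X) (h : MaxAssoc (X.presheaf.stalk z)) : MaxAssoc (Y.presheaf.stalk (f z)) := by
  let _ : Algebra (Y.presheaf.stalk (f z)) (X.presheaf.stalk z) := (f.stalkMap z).hom.toAlgebra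
  have : Module.Flat (Y.presheaf.stalk (f z)) (X.presheaf.stalk z) := Flat.stalkMap f z
  have : IsLocalHom (algebraMap (Y.presheaf.stalk (f z)) (X.presheaf.stalk z)) :=
    inferInstanceAs (IsLocalHom (f.stalkMap z).hom)
  exact maxAssoc_of_flat h

variable {k K : Type u} [Field k] [Field K] [Algebra k K] {X : Scheme.{u}}
  (f : X ⟶ Spec (CommRingCat.of k)) [IsLocallyNoetherian X]

theorem mem_genericPoints_j (x : X)
    (q : Spec (CommRingCat.of (StalkBC.Ox f x ⊗[k] K))) (hx : x ∈ genericPoints X)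
    (h : MaxAssoc ((_root_.FBase.bc f K).presheaf.stalk (StalkBC.j f x K q))) :
    StalkBC.j f x K q ∈ genericPoints ↥(_root_.FBase.bc f K) := by
  obtain ⟨N, hN⟩ : ∃ N, IsLocalRing.maximalIdeal (StalkBC.Ox f x) ^ N = ⊥ :=
    exists_pow_eq_bot (R := X.presheaf.stalk x) ((mem_genericPoints_iff x).mp hx)
  exact mem_genericPoints_of_minimal _ q.asIdeal (StalkBC.stalkEquiv f x K q)
    (TensorPrimary.minimalPrimes_tensor_field (A := StalkBC.Ox f x) (N := N) hN q.asIdeal
      (maxAssoc_of_ringEquiv (StalkBC.stalkEquiv f x K q) h))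

theorem noEmbedded_bc [IsLocallyNoetherian (_root_.FBase.bc f K)] :
    AssSch.NoEmbedded (Coh.structureModule X) ↔
      AssSch.NoEmbedded (Coh.structureModule (_root_.FBase.bc f K)) := by
  rw [noEmbedded_iff, noEmbedded_iff]
  have : Flat (Spec.map (CommRingCat.ofHom (algebraMap k K))) :=
    Groth.Agent.Lib.FibreDeg.Basic.flat_of_field _
  have : Flat (_root_.FBase.bcπ f K) := inferInstanceAs (Flat (pullback.fst f _))
  constructor
  · intro h y hy
    let x := (_root_.FBase.bcπ f K) y
    obtain ⟨q, hq⟩ := StalkBC.exists_j_eq f x K y specializes_rfl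
    rw [← hq] at hy ⊢
    exact mem_genericPoints_j f x q (h x (maxAssoc_map_of_flat _ _ (hq ▸ hy))) hy
  · intro h x hx
    let R := StalkBC.Ox f x ⊗[k] K
    let I : Ideal R := (IsLocalRing.maximalIdeal (StalkBC.Ox f x)).map (algebraMap _ R)
    obtain ⟨⟨Q, hQp⟩, hQ⟩ := PrimeSpectrum.comap_surjective_of_faithfullyFlat
      (A := StalkBC.Ox f x) (B := R) (IsLocalRing.closedPoint _)
    have hQ' : Q.comap (algebraMap (StalkBC.Ox f x) R) = IsLocalRing.maximalIdeal _ :=
      congrArg PrimeSpectrum.asIdeal hQ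
    have hIQ : I ≤ Q := Ideal.map_le_iff_le_comap.mpr hQ'.ge
    obtain ⟨q, hq, hqQ⟩ := Ideal.exists_minimalPrimes_le hIQ
    have := hq.1.1
    have hqc : q.comap (algebraMap (StalkBC.Ox f x) R) = IsLocalRing.maximalIdeal _ :=
      le_antisymm (hQ' ▸ Ideal.comap_mono hqQ) (Ideal.map_le_iff_le_comap.mp hq.1.2)
    let qq : Spec (CommRingCat.of R) := ⟨q, inferInstance⟩
    let T := Localization.AtPrime q
    have : Module.Flat (StalkBC.Ox f x) T := Module.Flat.trans _ R T
    have : IsLocalHom (algebraMap (StalkBC.Ox f x) T) := ⟨fun a ha => by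
      by_contra hna
      rw [IsScalarTower.algebraMap_apply (StalkBC.Ox f x) R T,
        IsLocalization.AtPrime.isUnit_to_map_iff T q] at ha
      exact ha (hqc.ge hna)⟩
    have hT : MaxAssoc T := by
      refine maxAssoc_of_flat_of_radical (R := StalkBC.Ox f x) ?_ hx
      rw [Ideal.radical_eq_sInf]
      refine le_sInf fun P ⟨hP, hPp⟩ => ?_
      have : P.IsPrime := hPp
      rw [← IsLocalization.AtPrime.map_eq_maximalIdeal q T, Ideal.map_le_iff_le_comap]
      refine hq.2 ⟨inferInstance, ?_⟩ ((Ideal.comap_mono (IsLocalRing.le_maximalIdeal hPp.ne_top)).trans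
        (IsLocalization.AtPrime.under_maximalIdeal _ q).le)
      rw [Ideal.map_le_iff_le_comap, Ideal.comap_comap, ← IsScalarTower.algebraMap_eq]
      exact Ideal.map_le_iff_le_comap.mp hP
    have hgen := GenericPoints.map_mem_of_flat (_root_.FBase.bcπ f K)
      (h _ (maxAssoc_of_ringEquiv (StalkBC.stalkEquiv f x K qq).symm hT))
    rwa [(StalkBC.j_π_eq_iff f x K qq).mpr hqc] at hgen

end Groth.Agent.H52.FBase.NoEmb
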