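import Groth.Agent.H52.FBase.ReducedProd
import Mathlib.RingTheory.Nilpotent.GeometricallyReduced
import Mathlib.RingTheory.Unramified.Field
import Mathlib.RingTheory.Jacobson.Ring
import Mathlib.FieldTheory.Perfect
import Mathlib.RingTheory.Etale.Field

/-!
Tensor products of reduced algebras: over algebraically closed, perfect fields and for
geometrically reduced algebras.
-/

universe u

open TensorProduct

namespace Groth.Agent.H52.FBase.GeomRed

theorem isReduced_tensor_fg_of_isAlgClosed {k A B : Type u} [Field k] [IsAlgClosed k] [CommRing A]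
    [CommRing B] [Algebra k A] [Algebra k B] [Algebra.FiniteType k B] [_root_.IsReduced A]
    [_root_.IsReduced B] : _root_.IsReduced (A ⊗[k] B) := by
  classical
  let e := Module.Free.chooseBasis k A
  constructor
  intro x hx
  apply (TensorProduct.equivFinsuppOfBasisLeft e (N := B)).injective
  rw [map_zero]
  ext i
  apply IsReduced.eq_zero
  have : IsJacobsonRing B := isJacobsonRing_of_finiteType (A := k)
  rw [← mem_nilradical, nilradical, Ideal.radical_eq_jacobson, Ideal.jacobson, Ideal.mem_sInf]
  rintro m ⟨-, hm⟩
  have : m.IsMaximal := hm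
  have : Algebra.FiniteType k (B ⧸ m) := .of_surjective (Ideal.Quotient.mkₐ k m) Ideal.Quotient.mk_surjective
  let _ := Ideal.Quotient.field m
  have : Module.Finite k (B ⧸ m) := finite_of_finite_type_of_isJacobsonRing k (B ⧸ m)
  have hbij : Function.Bijective (algebraMap k (B ⧸ m)) :=
    IsAlgClosed.algebraMap_bijective_of_isIntegral
  let φ : B →ₐ[k] k :=
    (AlgEquiv.ofBijective (Algebra.ofId k (B ⧸ m)) hbij).symm.toAlgHom.comp (Ideal.Quotient.mkₐ k m)
  let Φ : A ⊗[k] B →ₐ[k] A :=
    (Algebra.TensorProduct.rid k k A).toAlgHom.comp (Algebra.TensorProduct.map (AlgHom.id k A) φ)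
  have h0 : Φ x = 0 := (hx.map Φ).eq_zero
  have key : ∀ y : A ⊗[k] B, e.repr (Φ y) i = φ (TensorProduct.equivFinsuppOfBasisLeft e y i) := by
    intro y
    induction y using TensorProduct.induction_on with
    | zero => simp
    | tmul a b => simp [Φ, mul_comm]
    | add a b ha hb => simp [ha, hb]
  have := key x
  rw [h0, map_zero, Finsupp.zero_apply] at this
  have := (AlgEquiv.ofBijective (Algebra.ofId k (B ⧸ m)) hbij).symm.map_eq_zero_iff.mp this.symm
  exact Ideal.Quotient.eq_zero_iff_mem.mp this

theorem isReduced_tensor_of_isAlgClosed {k A B : Type u} [Field k] [IsAlgClosed k] [CommRing A]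
    [CommRing B] [Algebra k A] [Algebra k B] [_root_.IsReduced A] [_root_.IsReduced B] :
    _root_.IsReduced (A ⊗[k] B) :=
  IsReduced.tensorProduct_of_flat_of_forall_fg fun C hC => by
    have : Algebra.FiniteType k C := C.fg_iff_finiteType.mp hC
    have : _root_.IsReduced C := isReduced_of_injective C.val Subtype.val_injective
    exact isReduced_tensor_fg_of_isAlgClosed

theorem isReduced_tensor_field {k A : Type u} [Field k] [CommRing A] [Algebra k A]
    [Algebra.IsGeometricallyReduced k A] (K : Type u) [Field K] [Algebra k K] :
    _root_.IsReduced (A ⊗[k] K) := by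
  let L := AlgebraicClosure K
  let k' := AlgebraicClosure k
  let i : k' →ₐ[k] L := IsAlgClosed.lift
  let _ : Algebra k' L := i.toRingHom.toAlgebra
  have : IsScalarTower k k' L := .of_algebraMap_eq fun c => (i.commutes c).symm
  have : _root_.IsReduced (k' ⊗[k] A) := (Algebra.isGeometricallyReduced_field_iff k A).mp ‹_›
  have : _root_.IsReduced (L ⊗[k'] (k' ⊗[k] A)) := isReduced_tensor_of_isAlgClosed
  have : _root_.IsReduced (L ⊗[k] A) :=
    isReduced_of_injective (Algebra.TensorProduct.cancelBaseChange k k' L L A).symm
      (AlgEquiv.injective _)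
  have : _root_.IsReduced (K ⊗[k] A) := isReduced_of_injective
    (Algebra.TensorProduct.map (IsScalarTower.toAlgHom k K L) (AlgHom.id k A))
    (Module.Flat.rTensor_preserves_injective_linearMap _ (RingHom.injective _))
  exact isReduced_of_injective (Algebra.TensorProduct.comm k A K) (AlgEquiv.injective _)

theorem isReduced_tensor {k A B : Type u} [Field k] [CommRing A] [CommRing B] [Algebra k A]
    [Algebra k B] [Algebra.IsGeometricallyReduced k A] [_root_.IsReduced B] :
    _root_.IsReduced (A ⊗[k] B) :=
  ReducedProd.isReduced_tensor fun K _ _ => isReduced_tensor_field K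

theorem isGeometricallyReduced_of_perfectField {k A : Type u} [Field k] [PerfectField k]
    [CommRing A] [Algebra k A] [_root_.IsReduced A] : Algebra.IsGeometricallyReduced k A := by
  rw [Algebra.isGeometricallyReduced_field_iff]
  refine ReducedProd.isReduced_tensor (k := k) (A := AlgebraicClosure k) (B := A) fun K _ _ => ?_
  have : _root_.IsReduced (K ⊗[k] AlgebraicClosure k) :=
    IsReduced.tensorProduct_of_flat_of_forall_fg fun C hC => by
      have : Algebra.FiniteType k C := C.fg_iff_finiteType.mp hC
      have : Algebra.IsIntegral k C :=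
        Algebra.IsIntegral.of_injective C.val Subtype.val_injective
      have : Module.Finite k C := Algebra.IsIntegral.finite
      let hF : Field C := (Algebra.IsIntegral.isField_iff_isField
        (FaithfulSMul.algebraMap_injective k C)).mp (Field.toIsField k) |>.toField
      have : Algebra.IsSeparable k C := Algebra.IsAlgebraic.isSeparable_of_perfectField
      have : Algebra.FormallyUnramified k C := Algebra.FormallyUnramified.of_isSeparable k C
      exact Algebra.FormallyUnramified.isReduced_of_field K (K ⊗[k] C)
  exact isReduced_of_injective (Algebra.TensorProduct.comm k (AlgebraicClosure k) K) (AlgEquiv.injective _)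

end Groth.Agent.H52.FBase.GeomRed
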