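import Mathlib.RingTheory.AlgebraicIndependent.TranscendenceBasis
import Mathlib.RingTheory.AlgebraicIndependent.Basic
import Mathlib.RingTheory.TensorProduct.MvPolynomial
import Mathlib.RingTheory.Ideal.AssociatedPrime.Basic
import Mathlib.RingTheory.Flat.Basic
import Mathlib.RingTheory.IntegralClosure.IsIntegral.Basic
import Mathlib.RingTheory.Ideal.MinimalPrime.Basic
import Mathlib.RingTheory.Ideal.GoingUp

/-!
A tensor product of two fields has no embedded primes.
-/

universe u

open TensorProduct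

namespace Groth.Agent.H52.FBase.TensorFields

theorem isDomain_adjoin_tensor {k K : Type u} [Field k] [Field K] [Algebra k K] {ι : Type u}
    {x : ι → K} (hx : AlgebraicIndependent k x) (L : Type u) [Field L] [Algebra k L] :
    IsDomain (↥(IntermediateField.adjoin k (Set.range x)) ⊗[k] L) := by
  let F := IntermediateField.adjoin k (Set.range x)
  have hle : Algebra.adjoin k (Set.range x) ≤ F.toSubalgebra :=
    IntermediateField.algebra_adjoin_le_adjoin k _
  let P := Algebra.adjoin k (Set.range x)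
  let inc : P →ₐ[k] F := Subalgebra.inclusion hle
  let e : MvPolynomial ι k ≃ₐ[k] P := hx.aevalEquiv
  have hP : IsDomain (P ⊗[k] L) := by
    let e1 : P ⊗[k] L ≃ₐ[k] MvPolynomial ι k ⊗[k] L :=
      Algebra.TensorProduct.congr e.symm AlgEquiv.refl
    let e2 : MvPolynomial ι k ⊗[k] L ≃ₐ[k] MvPolynomial ι L :=
      (Algebra.TensorProduct.comm k _ _).trans ((MvPolynomial.scalarRTensorAlgEquiv).trans AlgEquiv.refl |>.restrictScalars k)
    exact (e1.trans e2).injective.isDomain (e1.trans e2).toRingHom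
  let g : P ⊗[k] L →ₐ[k] F ⊗[k] L := Algebra.TensorProduct.map inc (AlgHom.id k L)
  have hg : Function.Injective g :=
    Module.Flat.rTensor_preserves_injective_linearMap inc.toLinearMap
      (Subalgebra.inclusion_injective hle)
  have hs : ∀ d : F ⊗[k] L, ∃ s : P, s ≠ 0 ∧ ∃ w, g w = (inc s ⊗ₜ 1) * d := by
    intro d
    induction d using TensorProduct.induction_on with
    | zero => exact ⟨1, one_ne_zero, 0, by simp⟩
    | tmul a b =>
      obtain ⟨r, hr, s, hs, ha⟩ := IntermediateField.mem_adjoin_iff_div.mp a.2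
      by_cases hs0 : s = 0
      · refine ⟨1, one_ne_zero, 0, ?_⟩
        have : a = 0 := Subtype.ext (by simp [ha, hs0])
        simp [this]
      · refine ⟨⟨s, hs⟩, fun h => hs0 congr($h.1), ⟨r, hr⟩ ⊗ₜ b, ?_⟩
        simp only [g, Algebra.TensorProduct.map_tmul, Algebra.TensorProduct.tmul_mul_tmul,
          AlgHom.id_apply, one_mul]
        congr 1
        apply Subtype.ext
        show r = s * (a : K)
        rw [ha]
        field_simp
    | add a b ha hb =>
      obtain ⟨s, hs, w, hw⟩ := ha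
      obtain ⟨t, ht, v, hv⟩ := hb
      refine ⟨s * t, mul_ne_zero hs ht, (t ⊗ₜ 1) * w + (s ⊗ₜ 1) * v, ?_⟩
      have h1 : ∀ z : P, g (z ⊗ₜ 1) = inc z ⊗ₜ (1 : L) := fun z => by simp [g]
      have h2 : inc (s * t) ⊗ₜ[k] (1 : L) = (inc s ⊗ₜ 1) * (inc t ⊗ₜ 1) := by simp
      rw [map_add, map_mul, map_mul, hw, hv, h1, h1, h2]
      ring
  have hu : ∀ s : P, s ≠ 0 → IsUnit (inc s ⊗ₜ[k] (1 : L) : F ⊗[k] L) := fun s h =>
    ((isUnit_iff_ne_zero (G₀ := F) (a := inc s)).mpr fun h0 => h (Subalgebra.inclusion_injective hle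
      (h0.trans (map_zero inc).symm))).map
      (Algebra.TensorProduct.includeLeft : F →ₐ[k] F ⊗[k] L)
  have : Nontrivial (F ⊗[k] L) := hg.nontrivial
  suffices NoZeroDivisors (F ⊗[k] L) by convert NoZeroDivisors.to_isDomain (F ⊗[k] L)
  constructor
  intro a b hab
  obtain ⟨s, hs', w, hw⟩ := hs a
  obtain ⟨t, ht', v, hv⟩ := hs b
  have : g (w * v) = 0 := by
    have e : ∀ p q r z : F ⊗[k] L, (p * q) * (r * z) = (p * r) * (q * z) := fun p q r z => by ring
    rw [map_mul, hw, hv, e, hab, mul_zero]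
  have mz : ∀ p q : F ⊗[k] L, IsUnit p → p * q = 0 → q = 0 := by
    intro p q hp hpq
    obtain ⟨u, rfl⟩ := hp
    calc q = ((↑u⁻¹ : F ⊗[k] L) * ↑u) * q := by rw [Units.inv_mul, one_mul]
      _ = (↑u⁻¹ : F ⊗[k] L) * (↑u * q) := mul_assoc _ _ _
      _ = 0 := by rw [hpq, mul_zero]
  rcases mul_eq_zero.mp (hg (this.trans (map_zero g).symm)) with h | h
  · rw [h, map_zero] at hw
    exact Or.inl (mz _ _ (hu s hs') hw.symm)
  · rw [h, map_zero] at hv
    exact Or.inr (mz _ _ (hu t ht') hv.symm)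

theorem associatedPrimes_subset_minimalPrimes {D R : Type u} [CommRing D] [IsDomain D] [CommRing R]
    (g : D →+* R) (hg : g.IsIntegral) (hnzd : ∀ d, d ≠ 0 → ∀ v, g d * v = 0 → v = 0) :
    associatedPrimes R R ⊆ minimalPrimes R := by
  intro q hq
  obtain ⟨hprime, v, hv⟩ := hq
  algebraize [g]
  have hint : Algebra.IsIntegral D R := ⟨hg⟩
  have hbot : q.comap (algebraMap D R) = ⊥ := by
    rw [eq_bot_iff]
    intro d hd
    by_contra hd0
    rw [Ideal.mem_comap, hv, Ideal.mem_radical_iff] at hd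
    obtain ⟨n, hn⟩ := hd
    rw [Submodule.mem_colon_singleton, Submodule.mem_bot, smul_eq_mul, ← map_pow] at hn
    have hv0 := hnzd _ (pow_ne_zero n hd0) v hn
    subst hv0
    exact hprime.ne_top (eq_top_iff.mpr fun z _ => by
      rw [hv]
      exact Ideal.le_radical (Submodule.mem_colon_singleton.mpr (by simp)))
  refine ⟨⟨hprime, bot_le⟩, fun p hp hle => ?_⟩
  have := hp.1
  by_contra hne
  have hlt : p < q := lt_of_le_of_ne hle fun h => hne h.ge
  obtain ⟨z, hzq, hzp⟩ := SetLike.exists_of_lt hlt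
  exact absurd (Ideal.comap_lt_comap_of_integral_mem_sdiff (R := D) hle
    ⟨hzq, hzp⟩ (Algebra.IsIntegral.isIntegral z))
    (by rw [hbot]; exact not_lt_bot)

theorem tensor_fields_of_isAlgebraic {k F K L : Type u} [Field k] [Field F] [Field K] [Field L]
    [Algebra k F] [Algebra k K] [Algebra k L] [Algebra F K] [IsScalarTower k F K]
    [Algebra.IsAlgebraic F K] [IsDomain (F ⊗[k] L)] :
    associatedPrimes (K ⊗[k] L) (K ⊗[k] L) ⊆ minimalPrimes (K ⊗[k] L) := by
  have : Algebra.IsIntegral F K := inferInstance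
  let ε : (F ⊗[k] L) ⊗[F] K ≃+* K ⊗[k] L :=
    (Algebra.TensorProduct.comm F (F ⊗[k] L) K).toRingEquiv.trans
      (Algebra.TensorProduct.cancelBaseChange k F K K L).toRingEquiv
  refine associatedPrimes_subset_minimalPrimes
    (ε.toRingHom.comp (algebraMap (F ⊗[k] L) ((F ⊗[k] L) ⊗[F] K))) ?_ ?_
  · exact RingHom.IsIntegral.trans _ _ (algebraMap_isIntegral_iff.mpr inferInstance)
      (RingHom.isIntegral_of_surjective _ ε.surjective)
  · intro d hd v hv
    apply ε.symm.injective
    rw [map_zero]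
    have : d • ε.symm v = 0 := by
      apply ε.injective
      rw [map_zero, show d • ε.symm v = algebraMap (F ⊗[k] L) ((F ⊗[k] L) ⊗[F] K) d * ε.symm v from
        (Algebra.smul_def (A := (F ⊗[k] L) ⊗[F] K) d (ε.symm v)), map_mul, ε.apply_symm_apply]
      exact hv
    let _ : Module.Free (F ⊗[k] L) ((F ⊗[k] L) ⊗[F] K) := inferInstance
    exact (smul_eq_zero.mp this).resolve_left hd

theorem tensor_fields {k K L : Type u} [Field k] [Field K] [Field L] [Algebra k K] [Algebra k L] :
    associatedPrimes (K ⊗[k] L) (K ⊗[k] L) ⊆ minimalPrimes (K ⊗[k] L) := by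
  obtain ⟨s, hs⟩ := exists_isTranscendenceBasis k K
  have : IsDomain (IntermediateField.adjoin k (Set.range (Subtype.val : s → K)) ⊗[k] L) :=
    isDomain_adjoin_tensor hs.1 L
  have : Algebra.IsAlgebraic (IntermediateField.adjoin k (Set.range (Subtype.val : s → K))) K :=
    hs.isAlgebraic_field
  exact tensor_fields_of_isAlgebraic
    (F := IntermediateField.adjoin k (Set.range (Subtype.val : s → K)))

end Groth.Agent.H52.FBase.TensorFields
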