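import Mathlib.FieldTheory.SeparableClosure
import Mathlib.FieldTheory.PrimitiveElement
import Mathlib.FieldTheory.IsAlgClosed.AlgebraicClosure
import Mathlib.RingTheory.PowerBasis
import Mathlib.RingTheory.Flat.Basic
import Mathlib.RingTheory.TensorProduct.Free
import Mathlib.FieldTheory.IntermediateField.Adjoin.Basic

/-!
For a primary extension `F/k` (`k` separably closed in `F`), `F ⊗_k L` is a domain for every
separable algebraic extension `L`.
-/

universe u

open Polynomial TensorProduct

namespace Groth.Agent.H52.FBase.Primary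

theorem coeff_mem_of_roots_mem {k Ω : Type u} [Field k] [Field Ω] [Algebra k Ω]
    (S : IntermediateField k Ω) {g : Ω[X]} (hs : g.Splits) (hm : g.Monic)
    (h : ∀ r ∈ g.roots, r ∈ S) (n : ℕ) : g.coeff n ∈ S := by
  have hl : g ∈ Polynomial.lifts (algebraMap S Ω) := by
    rw [hs.eq_prod_roots_of_monic hm]
    refine Subsemiring.multiset_prod_mem _ _ fun q hq => ?_
    obtain ⟨r, hr, rfl⟩ := Multiset.mem_map.mp hq
    exact ⟨X - C (⟨r, h r hr⟩ : S), by simp⟩
  obtain ⟨c, hc⟩ := (Polynomial.lifts_iff_coeff_lifts g).mp hl n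
  exact hc ▸ c.2

variable (k F : Type u) [Field k] [Field F] [Algebra k F]

theorem irreducible_map_of_separableClosure_eq_bot (h : separableClosure k F = ⊥) {p : k[X]}
    (hp : Irreducible p) (hm : p.Monic) (hsep : p.Separable) :
    Irreducible (p.map (algebraMap k F)) := by
  classical
  have hmF := hm.map (algebraMap k F)
  refine (Monic.irreducible_iff_natDegree hmF).mpr ⟨?_, fun g q hg hq hgq => ?_⟩
  · intro h1
    have := congrArg Polynomial.natDegree h1
    rw [natDegree_map, natDegree_one] at this
    exact hp.natDegree_pos.ne' this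
  let Ω := AlgebraicClosure F
  let S := separableClosure k Ω
  have hroots : ∀ r ∈ (g.map (algebraMap F Ω)).roots, r ∈ S := by
    intro r hr
    rw [mem_roots (hg.map _).ne_zero] at hr
    have hpr : aeval r p = 0 := by
      rw [aeval_def, IsScalarTower.algebraMap_eq k F Ω, ← eval₂_map, ← hgq, eval₂_mul,
        ← eval_map (algebraMap F Ω), hr, zero_mul]
    rw [mem_separableClosure_iff]
    exact hsep.of_dvd (minpoly.dvd k r hpr)
  have hcoeff : ∀ n, algebraMap F Ω (g.coeff n) ∈ S := by
    intro n
    rw [← coeff_map]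
    exact coeff_mem_of_roots_mem S (IsAlgClosed.splits _) (hg.map _) hroots n
  have hk : ∀ n, g.coeff n ∈ (algebraMap k F).range := by
    intro n
    have h1 : g.coeff n ∈ separableClosure k F :=
      (map_mem_separableClosure_iff (IsScalarTower.toAlgHom k F Ω)).mp (hcoeff n)
    rw [h, IntermediateField.mem_bot] at h1
    exact h1
  obtain ⟨g₀, hg₀⟩ := (Polynomial.lifts_iff_coeff_lifts _).mpr hk
  have hdvd : g₀ ∣ p := by
    rw [← Polynomial.map_dvd_map' (algebraMap k F), ← hgq]
    exact (show g₀.map (algebraMap k F) = g from hg₀) ▸ dvd_mul_right _ _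
  rcases hp.dvd_iff.mp hdvd with hu | ha
  · left
    rw [← show g₀.map (algebraMap k F) = g from hg₀, natDegree_map]
    exact natDegree_eq_zero_of_isUnit hu
  · right
    have h1 := natDegree_eq_of_degree_eq (degree_eq_degree_of_associated ha)
    have h2 := congrArg Polynomial.natDegree hgq
    rw [hg.natDegree_mul hq, natDegree_map, ← hg₀] at h2
    change (g₀.map (algebraMap k F)).natDegree + _ = _ at h2
    rw [natDegree_map] at h2
    omega

/-- `F ⊗_k L` is a domain for `L/k` separable algebraic and `F/k` primary. -/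
theorem noZeroDivisors_tensor (h : separableClosure k F = ⊥) (L : Type u) [Field L] [Algebra k L]
    [Algebra.IsSeparable k L] : NoZeroDivisors (F ⊗[k] L) := by
  classical
  refine ⟨fun {x y} hxy => ?_⟩
  obtain ⟨s, hs⟩ := TensorProduct.exists_finset x
  obtain ⟨t, ht⟩ := TensorProduct.exists_finset y
  let L' : IntermediateField k L :=
    IntermediateField.adjoin k ((s.image Prod.snd ∪ t.image Prod.snd : Finset L) : Set L)
  have : FiniteDimensional k L' :=
    IntermediateField.finiteDimensional_adjoin fun a _ => (Algebra.IsSeparable.isSeparable k a).isIntegral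
  obtain ⟨α, hα⟩ := Field.exists_primitive_element k L'
  have hint : IsIntegral k α := Algebra.IsIntegral.isIntegral α
  let pb : PowerBasis k L' := (IntermediateField.adjoin.powerBasis hint).map
    ((IntermediateField.equivOfEq hα).trans IntermediateField.topEquiv)
  let Ω := AlgebraicClosure F
  let e : L' →ₐ[k] Ω := IsAlgClosed.lift
  let Φ : F ⊗[k] L' →ₐ[F] Ω :=
    Algebra.TensorProduct.lift (Algebra.ofId F Ω) e fun _ _ => .all _ _
  have hΦ : Function.Injective Φ := by
    let b := Algebra.TensorProduct.basis F pb.basis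
    have hgen : IsIntegral k (e pb.gen) := (Algebra.IsIntegral.isIntegral pb.gen).map e
    have hmp : minpoly k (e pb.gen) = minpoly k pb.gen := minpoly.algHom_eq e e.injective _
    have hirr : Irreducible ((minpoly k pb.gen).map (algebraMap k F)) :=
      irreducible_map_of_separableClosure_eq_bot k F h (minpoly.irreducible (Algebra.IsIntegral.isIntegral _))
        (minpoly.monic (Algebra.IsIntegral.isIntegral _)) (Algebra.IsSeparable.isSeparable k pb.gen)
    have hmin : minpoly F (e pb.gen) = (minpoly k pb.gen).map (algebraMap k F) := by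
      refine (minpoly.eq_of_irreducible_of_monic hirr ?_ ((minpoly.monic (Algebra.IsIntegral.isIntegral _)).map _)).symm
      rw [aeval_map_algebraMap, ← hmp, minpoly.aeval]
    have hdim : (minpoly F (e pb.gen)).natDegree = pb.dim := by
      rw [hmin, natDegree_map, pb.natDegree_minpoly]
    have hli := linearIndependent_pow (K := F) (e pb.gen)
    have hb : ∀ i, Φ.toLinearMap (b i) = e pb.gen ^ (i : ℕ) := by
      intro i
      simp [Φ, b, Algebra.TensorProduct.basis_apply, pb.basis_eq_pow]
    show Function.Injective Φ.toLinearMap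
    rw [← LinearMap.ker_eq_bot]
    have hli' : LinearIndependent F (Φ.toLinearMap ∘ b) := by
      rw [show (Φ.toLinearMap ∘ b) = fun i : Fin pb.dim => e pb.gen ^ (i : ℕ) from funext hb]
      exact hli.comp (Fin.cast hdim.symm) (Fin.cast_injective _)
    rw [eq_bot_iff]
    intro z hz
    rw [LinearMap.mem_ker, ← b.linearCombination_repr z, Finsupp.apply_linearCombination] at hz
    rw [Submodule.mem_bot, ← b.linearCombination_repr z,
      linearIndependent_iff.mp hli' _ hz, map_zero]
  let f : F ⊗[k] L' →ₐ[k] F ⊗[k] L := Algebra.TensorProduct.map (AlgHom.id k F) L'.val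
  have hf : Function.Injective f :=
    Module.Flat.lTensor_preserves_injective_linearMap (M := F) L'.val.toLinearMap Subtype.val_injective
  have hmem : ∀ (u : Finset (F × L)) (_ : ∀ p ∈ u, p.2 ∈ L'), ∀ z,
      z = ∑ p ∈ u, p.1 ⊗ₜ[k] p.2 → ∃ z', f z' = z := by
    rintro u hu _ rfl
    refine ⟨∑ p ∈ u.attach, p.1.1 ⊗ₜ (⟨p.1.2, hu p.1 p.2⟩ : L'), ?_⟩
    rw [map_sum]
    exact (Finset.sum_attach u fun p => p.1 ⊗ₜ[k] p.2)
  obtain ⟨x', rfl⟩ := hmem s (fun p hp => IntermediateField.subset_adjoin _ _ (by simpa using Or.inl ⟨p.1, hp⟩)) x hs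
  obtain ⟨y', rfl⟩ := hmem t (fun p hp => IntermediateField.subset_adjoin _ _ (by simpa using Or.inr ⟨p.1, hp⟩)) y ht
  rw [← map_mul, ← map_zero f] at hxy
  have := congrArg Φ (hf hxy)
  rw [map_mul, map_zero, mul_eq_zero] at this
  rcases this with h1 | h1
  · left; rw [hΦ (h1.trans (map_zero Φ).symm), map_zero]
  · right; rw [hΦ (h1.trans (map_zero Φ).symm), map_zero]

end Groth.Agent.H52.FBase.Primary
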