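import Groth.Agent.H52.FBase.Connected
import Groth.Agent.H52.FBase.Primary
import Groth.Agent.Lib.GeomConn.Components
import Mathlib.FieldTheory.IsSepClosed
import Mathlib.AlgebraicGeometry.Pullbacks

/-!
Primary extensions are geometrically irreducible.
-/

universe u

open CategoryTheory CategoryTheory.Limits AlgebraicGeometry TensorProduct
open Groth.Agent.Lib

namespace Groth.Agent.H52.FBase.PrimaryGeom

variable {k : Type u} [Field k]

theorem irreducibleSpace_bc_of_sepClosure {X : Scheme.{u}} (f : X ⟶ Spec (CommRingCat.of k))
    [IrreducibleSpace ↥(FBase.bc f (SeparableClosure k))] (K : Type u) [Field K] [Algebra k K] :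
    IrreducibleSpace ↥(FBase.bc f K) := by
  let _ : X.Over (Spec (CommRingCat.of k)) := ⟨f⟩
  let L := SeparableClosure k
  let Ω := AlgebraicClosure K
  let i : L →ₐ[k] Ω := IsAlgClosed.lift
  let _ : Algebra L Ω := i.toRingHom.toAlgebra
  have : IsScalarTower k L Ω := .of_algebraMap_eq fun c => (i.commutes c).symm
  have := GeomConn.Components.bcMap_geometricallyIrreducible k X L Ω
  have : IrreducibleSpace ↥(Curv2.bc k X L) := ‹IrreducibleSpace ↥(FBase.bc f (SeparableClosure k))›
  have hI : IrreducibleSpace ↥(Curv2.bc k X Ω) :=
    GeometricallyIrreducible.irreducibleSpace (S := Curv2.bc k X L)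
      (GeomConn.Components.bcMap k X L Ω) (GeomConn.Components.bcMap_isOpenMap k X L Ω)
  have hsur : Surjective (GeomConn.Components.bcMap k X K Ω) :=
    ⟨GeomConn.Components.bcMap_surjective k X K Ω⟩
  exact @Descend.irreducibleSpace_of_surjective _ _ (GeomConn.Components.bcMap k X K Ω) hsur hI

/-- A primary extension stays irreducible under all field extensions. -/
theorem irreducibleSpace_bc_spec (F : Type u) [Field F] [Algebra k F]
    (h : separableClosure k F = ⊥) (K : Type u) [Field K] [Algebra k K] :
    IrreducibleSpace ↥(FBase.bc (Spec.map (CommRingCat.ofHom (algebraMap k F))) K) := by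
  have : IrreducibleSpace ↥(FBase.bc (Spec.map (CommRingCat.ofHom (algebraMap k F))) (SeparableClosure k)) := by
    have : NoZeroDivisors (F ⊗[k] SeparableClosure k) := Primary.noZeroDivisors_tensor k F h _
    have : Nontrivial (F ⊗[k] SeparableClosure k) :=
      (Algebra.TensorProduct.includeLeft_injective (S := k) (RingHom.injective (algebraMap k (SeparableClosure k)))).nontrivial
    have : IsDomain (F ⊗[k] SeparableClosure k) := by
      convert NoZeroDivisors.to_isDomain (F ⊗[k] SeparableClosure k)
    have hirr : IrreducibleSpace ↥(Spec (CommRingCat.of (F ⊗[k] SeparableClosure k))) :=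
      inferInstanceAs (IrreducibleSpace (PrimeSpectrum (F ⊗[k] SeparableClosure k)))
    exact (pullbackSpecIso k F (SeparableClosure k)).hom.homeomorph.irreducibleSpace_iff.mpr hirr
  exact irreducibleSpace_bc_of_sepClosure _ K

end Groth.Agent.H52.FBase.PrimaryGeom
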