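import Groth.Agent.H46.FiberStalk
import Mathlib.AlgebraicGeometry.Morphisms.Preimmersion
import Mathlib.AlgebraicGeometry.Stalk
import Mathlib.AlgebraicGeometry.Pullbacks

/-!
Stalks of the base change of a preimmersion at points over a point where it is a closed point embedding.
-/

universe u

open CategoryTheory CategoryTheory.Limits AlgebraicGeometry IsLocalRing

namespace Groth.Agent.H52.FBase.BCReducedStalk

variable {W T Z U : Scheme.{u}} {j : W ⟶ T} {q : W ⟶ Z} {h : T ⟶ U} {ι : Z ⟶ U}

theorem ker_stalkMap [IsPreimmersion j] [IsPreimmersion ι] (H : IsPullback j q h ι) (w : W)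
    (hz : IsField (Z.presheaf.stalk (q w))) :
    RingHom.ker (j.stalkMap w).hom =
      (maximalIdeal (U.presheaf.stalk (h (j w)))).map (h.stalkMap (j w)).hom := by
  set I := (maximalIdeal (U.presheaf.stalk (h (j w)))).map (h.stalkMap (j w)).hom with hI
  have hw : h (j w) = ι (q w) := by rw [← Scheme.Hom.comp_apply, H.w, Scheme.Hom.comp_apply]
  apply le_antisymm
  · have hle : I ≤ maximalIdeal (T.presheaf.stalk (j w)) :=
      Ideal.map_le_iff_le_comap.2 fun r hr hu => hr (isUnit_of_map_unit (h.stalkMap (j w)).hom r hu)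
    have : Nontrivial (T.presheaf.stalk (j w) ⧸ I) :=
      Ideal.Quotient.nontrivial_iff.2 fun he =>
        (maximalIdeal.isMaximal (T.presheaf.stalk (j w))).ne_top (top_le_iff.1 (he ▸ hle))
    have : IsLocalRing (T.presheaf.stalk (j w) ⧸ I) :=
      .of_surjective' (Ideal.Quotient.mk I) Ideal.Quotient.mk_surjective
    let Q : CommRingCat.{u} := CommRingCat.of (T.presheaf.stalk (j w) ⧸ I)
    have : IsLocalRing Q := ‹IsLocalRing (T.presheaf.stalk (j w) ⧸ I)›
    let mk : T.presheaf.stalk (j w) ⟶ Q := CommRingCat.ofHom (Ideal.Quotient.mk I)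
    obtain ⟨q1, hq1⟩ := Groth.Agent.H46.FiberStalk.exists_factor_residueField h (j w) Q mk
      (fun r hr => Ideal.Quotient.eq_zero_iff_mem.2 (Ideal.mem_map_of_mem _ hr)) (ι (q w)) hw
    have hsurj : Function.Surjective (ι.residueFieldMap (q w)).hom := by
      intro v
      obtain ⟨s, rfl⟩ := Z.residue_surjective (q w) v
      obtain ⟨r, rfl⟩ := ι.stalkMap_surjective (q w) s
      exact ⟨U.residue (ι (q w)) r, congr($(Scheme.residue_residueFieldMap ι (q w)) r)⟩
    have : IsIso (ι.residueFieldMap (q w)) :=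
      (ConcreteCategory.isIso_iff_bijective _).mpr ⟨RingHom.injective _, hsurj⟩
    let q2 : Spec Q ⟶ Z := q1 ≫ inv (Spec.map (ι.residueFieldMap (q w))) ≫ Z.fromSpecResidueField (q w)
    have hq2 : q2 ≫ ι = Spec.map mk ≫ T.fromSpecStalk (j w) ≫ h := by
      rw [← hq1, Category.assoc, Category.assoc]
      congr 1
      rw [IsIso.inv_comp_eq, Scheme.Hom.SpecMap_residueFieldMap_fromSpecResidueField]
    let l : Spec Q ⟶ W := H.lift (Spec.map mk ≫ T.fromSpecStalk (j w)) q2 (by rw [Category.assoc, hq2])
    have hl : l ≫ j = Spec.map mk ≫ T.fromSpecStalk (j w) := H.lift_fst _ _ _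
    have hloc : IsLocalHom mk.hom :=
      .of_surjective (Ideal.Quotient.mk I) Ideal.Quotient.mk_surjective
    have hpt : l (closedPoint Q) = w := by
      apply j.isEmbedding.injective
      refine (congrArg (fun m : Spec Q ⟶ T => m (closedPoint Q)) hl).trans ?_
      show T.fromSpecStalk (j w) (Spec.map mk (closedPoint Q)) = j w
      have : Spec.map mk (closedPoint Q) = closedPoint (T.presheaf.stalk (j w)) :=
        IsLocalRing.comap_closedPoint mk.hom
      rw [this, Scheme.fromSpecStalk_closedPoint]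
    let φ : W.presheaf.stalk w ⟶ Q :=
      W.presheaf.stalkSpecializes (specializes_of_eq hpt) ≫ Scheme.stalkClosedPointTo l
    have key : j.stalkMap w ≫ φ = mk := by
      apply Spec.map_injective
      rw [← cancel_mono (T.fromSpecStalk (j w)), Spec.map_comp, Category.assoc,
        Scheme.SpecMap_stalkMap_fromSpecStalk, ← hl, ← Category.assoc]
      congr 1
      simp only [φ, Spec.map_comp, Category.assoc,
        Scheme.SpecMap_stalkSpecializes_fromSpecStalk, Scheme.Spec_stalkClosedPointTo_fromSpecStalk]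
    intro s hs
    have : mk.hom s = 0 := by
      rw [← key]
      show φ.hom ((j.stalkMap w).hom s) = 0
      rw [RingHom.mem_ker.1 hs, map_zero]
    exact Ideal.Quotient.eq_zero_iff_mem.1 this
  · refine Ideal.map_le_iff_le_comap.2 fun r hr => ?_
    show (j.stalkMap w).hom ((h.stalkMap (j w)).hom r) = 0
    have h1 : ((j ≫ h).stalkMap w).hom r = 0 := by
      rw [Scheme.Hom.stalkMap_congr_hom (j ≫ h) (q ≫ ι) H.w, Scheme.Hom.stalkMap_comp]
      let e : U.presheaf.stalk (h (j w)) ≅ U.presheaf.stalk (ι (q w)) := U.presheaf.stalkCongr (.of_eq hw)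
      show (q.stalkMap w).hom ((ι.stalkMap (q w)).hom (e.hom.hom r)) = 0
      have h2 : (ι.stalkMap (q w)).hom (e.hom.hom r) = 0 := by
        by_contra h0
        let := hz.toField
        have hu := isUnit_of_map_unit (ι.stalkMap (q w)).hom _ (isUnit_iff_ne_zero.2 h0)
        exact hr ((isUnit_map_iff e.commRingCatIsoToRingEquiv r).mp hu)
      rw [h2, map_zero]
    rw [Scheme.Hom.stalkMap_comp] at h1
    exact h1

end Groth.Agent.H52.FBase.BCReducedStalk
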