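import Groth.Prelude.Def_FDesc
import Mathlib.AlgebraicGeometry.Morphisms.Flat
import Mathlib.AlgebraicGeometry.Morphisms.Preimmersion
import Mathlib.AlgebraicGeometry.PullbackCarrier
import Mathlib.RingTheory.Flat.FaithfullyFlat.Algebra

/-!
Local rings of `X ⊗_k K` above a point `x` are the localizations of `O_x ⊗_k K`.
-/

universe u

open CategoryTheory CategoryTheory.Limits AlgebraicGeometry TensorProduct

namespace Groth.Agent.H52.FBase.StalkBC

noncomputable section

theorem flat_fromSpecStalk {X : Scheme.{u}} (x : X) : Flat (X.fromSpecStalk x) := by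
  obtain ⟨U, hU, hxU, -⟩ :=
    exists_isAffineOpen_mem_and_subset (X := X) (x := x) (U := ⊤) (Set.mem_univ x)
  rw [← hU.fromSpecStalk_eq_fromSpecStalk hxU, IsAffineOpen.fromSpecStalk]
  let _ : Algebra Γ(X, U) (X.presheaf.stalk x) := (X.presheaf.germ U x hxU).hom.toAlgebra
  have := hU.isLocalization_stalk ⟨x, hxU⟩
  have hfl : Module.Flat Γ(X, U) (X.presheaf.stalk x) :=
    IsLocalization.flat _ (hU.primeIdealOf ⟨x, hxU⟩).asIdeal.primeCompl
  have : Flat (Spec.map (X.presheaf.germ U x hxU)) :=
    (HasRingHomProperty.Spec_iff (P := @Flat)).mpr hfl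
  infer_instance

theorem bijective_stalkMap {A B : Scheme.{u}} (j : A ⟶ B) [Flat j] [SurjectiveOnStalks j] (a : A) :
    Function.Bijective (j.stalkMap a) := by
  refine ⟨?_, j.stalkMap_surjective a⟩
  let R := B.presheaf.stalk (j a)
  let S := A.presheaf.stalk a
  let _ : Algebra R S := (j.stalkMap a).hom.toAlgebra
  have : Module.Flat R S := Flat.stalkMap j a
  have : IsLocalHom (algebraMap R S) := inferInstanceAs (IsLocalHom (j.stalkMap a).hom)
  have : Module.FaithfullyFlat R S := .of_flat_of_isLocalHom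
  exact FaithfulSMul.algebraMap_injective R S

variable {k : Type u} [Field k] {X : Scheme.{u}} (f : X ⟶ Spec (CommRingCat.of k)) (x : X)

/-- The structure map `k → O_x`. -/
def φ : k →+* X.presheaf.stalk x := (Spec.preimage (X.fromSpecStalk x ≫ f)).hom

theorem specMap_φ : Spec.map (CommRingCat.ofHom (φ f x)) = X.fromSpecStalk x ≫ f :=
  Spec.map_preimage _

/-- The stalk as a `k`-algebra. -/
def Ox (_ : X ⟶ Spec (CommRingCat.of k)) (x : X) : Type u := X.presheaf.stalk x

instance : CommRing (Ox f x) := inferInstanceAs (CommRing (X.presheaf.stalk x))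

instance : IsLocalRing (Ox f x) := inferInstanceAs (IsLocalRing (X.presheaf.stalk x))

instance [IsLocallyNoetherian X] : IsNoetherianRing (Ox f x) :=
  inferInstanceAs (IsNoetherianRing (X.presheaf.stalk x))

instance : Algebra k (Ox f x) := RingHom.toAlgebra (φ f x)

/-- `Spec O_x → X`. -/
def fromOx : Spec (CommRingCat.of (Ox f x)) ⟶ X := X.fromSpecStalk x

instance : Flat (fromOx f x) := flat_fromSpecStalk x

instance : IsPreimmersion (fromOx f x) := inferInstanceAs (IsPreimmersion (X.fromSpecStalk x))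

theorem specMap_alg : Spec.map (CommRingCat.ofHom (algebraMap k (Ox f x))) = fromOx f x ≫ f :=
  specMap_φ f x

theorem fromOx_closedPoint : fromOx f x (IsLocalRing.closedPoint (Ox f x)) = x :=
  X.fromSpecStalk_closedPoint

theorem range_fromOx : Set.range (fromOx f x) = {y | y ⤳ x} := Scheme.range_fromSpecStalk

variable (K : Type u) [Field K] [Algebra k K]

/-- The isomorphism `Spec (O_x ⊗ K) → Spec O_x ×_X (X ⊗ K)`. -/
def e : Spec (CommRingCat.of (Ox f x ⊗[k] K)) ≅
    pullback (fromOx f x) (pullback.fst f (Spec.map (CommRingCat.ofHom (algebraMap k K)))) :=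
  (pullbackSpecIso k (Ox f x) K).symm ≪≫
    pullback.congrHom (specMap_alg f x) rfl ≪≫
    (pullbackRightPullbackFstIso f (Spec.map (CommRingCat.ofHom (algebraMap k K))) (fromOx f x)).symm

/-- The map `Spec (O_x ⊗ K) → X ⊗ K`. -/
def j : Spec (CommRingCat.of (Ox f x ⊗[k] K)) ⟶ _root_.FBase.bc f K :=
  (e f x K).hom ≫
    pullback.snd (fromOx f x) (pullback.fst f (Spec.map (CommRingCat.ofHom (algebraMap k K))))

instance : Flat (j f x K) := by
  have : Flat ((e f x K).hom ≫ pullback.snd (fromOx f x)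
    (pullback.fst f (Spec.map (CommRingCat.ofHom (algebraMap k K))))) := inferInstance
  exact this

instance : IsPreimmersion (j f x K) := by
  have : IsPreimmersion ((e f x K).hom ≫ pullback.snd (fromOx f x)
    (pullback.fst f (Spec.map (CommRingCat.ofHom (algebraMap k K))))) := inferInstance
  exact this

theorem e_fst : (e f x K).hom ≫ pullback.fst _ _ =
    Spec.map (CommRingCat.ofHom (algebraMap (Ox f x) (Ox f x ⊗[k] K))) := by
  simp [e, pullback.congrHom]
  rw [pullback.lift_fst, Category.comp_id, pullbackSpecIso_inv_fst]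

theorem j_π : j f x K ≫ _root_.FBase.bcπ f K =
    Spec.map (CommRingCat.ofHom (algebraMap (Ox f x) (Ox f x ⊗[k] K))) ≫ fromOx f x := by
  rw [← e_fst, Category.assoc, pullback.condition, ← Category.assoc]
  rfl

theorem j_π_apply (q : Spec (CommRingCat.of (Ox f x ⊗[k] K))) :
    (_root_.FBase.bcπ f K) (j f x K q) = fromOx f x
      (Spec.map (CommRingCat.ofHom (algebraMap (Ox f x) (Ox f x ⊗[k] K))) q) :=
  congrArg (fun m : Spec (CommRingCat.of (Ox f x ⊗[k] K)) ⟶ X => m q) (j_π f x K)

theorem j_π_eq_iff (q : Spec (CommRingCat.of (Ox f x ⊗[k] K))) :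
    (_root_.FBase.bcπ f K) (j f x K q) = x ↔
      q.asIdeal.comap (algebraMap (Ox f x) (Ox f x ⊗[k] K)) =
        IsLocalRing.maximalIdeal (Ox f x) := by
  rw [j_π_apply]
  constructor
  · intro h
    exact congrArg PrimeSpectrum.asIdeal
      ((fromOx f x).isEmbedding.injective (h.trans (fromOx_closedPoint f x).symm))
  · intro h
    exact (congrArg (fromOx f x) (PrimeSpectrum.ext h)).trans (fromOx_closedPoint f x)

theorem exists_j_eq (x' : ↥(_root_.FBase.bc f K)) (h : (_root_.FBase.bcπ f K) x' ⤳ x) :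
    ∃ q, j f x K q = x' := by
  have hr : (_root_.FBase.bcπ f K) x' ∈ Set.range (fromOx f x) := by
    rw [range_fromOx]
    exact h
  obtain ⟨p, hp⟩ := hr
  obtain ⟨z, -, hz⟩ := Scheme.Pullback.exists_preimage_pullback p x'
    (f := fromOx f x) (g := pullback.fst f (Spec.map (CommRingCat.ofHom (algebraMap k K)))) hp
  obtain ⟨q, rfl⟩ := (e f x K).hom.surjective z
  exact ⟨q, hz⟩

instance (q : Spec (CommRingCat.of (Ox f x ⊗[k] K))) :
    (PrimeSpectrum.asIdeal (R := Ox f x ⊗[k] K) q).IsPrime := q.isPrime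

/-- The stalk at `j q` is the localization at `q`. -/
def stalkEquiv (q : Spec (CommRingCat.of (Ox f x ⊗[k] K))) :
    (_root_.FBase.bc f K).presheaf.stalk (j f x K q) ≃+* Localization.AtPrime (PrimeSpectrum.asIdeal (R := Ox f x ⊗[k] K) q) :=
  (RingEquiv.ofBijective ((j f x K).stalkMap q).hom (bijective_stalkMap (j f x K) q)).trans
    (Spec.stalkIso _ q).commRingCatIsoToRingEquiv

end

end Groth.Agent.H52.FBase.StalkBC
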