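import Groth.Agent.H52.FBase.StalkBC
import Groth.Agent.H52.FBase.GeomRed
import Mathlib.RingTheory.LocalProperties.Reduced
import Mathlib.RingTheory.Spectrum.Prime.Homeomorph
import Mathlib.FieldTheory.PurelyInseparable.PerfectClosure

/-!
Pointwise criteria: geometrically reduced at a point, geometrically pointwise integral.
-/

universe u

open CategoryTheory CategoryTheory.Limits AlgebraicGeometry TensorProduct
open Groth.Agent.H52.FBase.StalkBC

namespace Groth.Agent.H52.FBase.GeomPt

theorem isDomain_tensor_fg_of_isAlgClosed {k A B : Type u} [Field k] [IsAlgClosed k] [CommRing A]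
    [CommRing B] [Algebra k A] [Algebra k B] [Algebra.FiniteType k B] [IsDomain A] [IsDomain B] :
    NoZeroDivisors (A ⊗[k] B) := by
  classical
  let e := Module.Free.chooseBasis k A
  constructor
  intro x y hxy
  have hJ : IsJacobsonRing B := isJacobsonRing_of_finiteType (A := k)
  let c : A ⊗[k] B → _ := TensorProduct.equivFinsuppOfBasisLeft e (N := B)
  have hm : ∀ m : Ideal B, m.IsMaximal → (∀ i, c x i ∈ m) ∨ (∀ i, c y i ∈ m) := by
    intro m hm
    have : Algebra.FiniteType k (B ⧸ m) :=
      .of_surjective (Ideal.Quotient.mkₐ k m) Ideal.Quotient.mk_surjective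
    let _ := Ideal.Quotient.field m
    have : Module.Finite k (B ⧸ m) := finite_of_finite_type_of_isJacobsonRing k (B ⧸ m)
    have hbij : Function.Bijective (algebraMap k (B ⧸ m)) :=
      IsAlgClosed.algebraMap_bijective_of_isIntegral
    let ε := (AlgEquiv.ofBijective (Algebra.ofId k (B ⧸ m)) hbij).symm
    let φ : B →ₐ[k] k := ε.toAlgHom.comp (Ideal.Quotient.mkₐ k m)
    let Φ : A ⊗[k] B →ₐ[k] A :=
      (Algebra.TensorProduct.rid k k A).toAlgHom.comp
        (Algebra.TensorProduct.map (AlgHom.id k A) φ)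
    have key : ∀ z : A ⊗[k] B, ∀ i,
        e.repr (Φ z) i = φ (TensorProduct.equivFinsuppOfBasisLeft e z i) := by
      intro z i
      induction z using TensorProduct.induction_on with
      | zero => simp
      | tmul a b => simp [Φ, mul_comm]
      | add a b ha hb => simp [ha, hb]
    have hz : ∀ z : A ⊗[k] B, Φ z = 0 → ∀ i, c z i ∈ m := by
      intro z hz i
      have := key z i
      rw [hz, map_zero, Finsupp.zero_apply] at this
      exact Ideal.Quotient.eq_zero_iff_mem.mp (ε.map_eq_zero_iff.mp this.symm)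
    have : Φ x * Φ y = 0 := by rw [← map_mul, hxy, map_zero]
    exact (mul_eq_zero.mp this).imp (hz x) (hz y)
  by_contra! hne
  obtain ⟨hx, hy⟩ := hne
  obtain ⟨i, hi⟩ : ∃ i, c x i ≠ 0 := by
    by_contra! h
    exact hx ((TensorProduct.equivFinsuppOfBasisLeft e (N := B)).injective
      (by ext i; simpa [c] using h i))
  obtain ⟨i', hi'⟩ : ∃ i, c y i ≠ 0 := by
    by_contra! h
    exact hy ((TensorProduct.equivFinsuppOfBasisLeft e (N := B)).injective
      (by ext i; simpa [c] using h i))
  have h0 : c x i * c y i' ∈ (⊥ : Ideal B).jacobson := by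
    rw [Ideal.jacobson, Ideal.mem_sInf]
    rintro m ⟨-, hmm⟩
    rcases hm m hmm with h | h
    · exact m.mul_mem_right _ (h i)
    · exact m.mul_mem_left _ (h i')
  rw [← Ideal.radical_eq_jacobson, Ideal.mem_radical_iff] at h0
  obtain ⟨n, hn⟩ := h0
  rw [Ideal.mem_bot] at hn
  exact mul_ne_zero hi hi' (pow_eq_zero_iff'.mp hn).1

theorem isDomain_tensor_of_isAlgClosed {k A B : Type u} [Field k] [IsAlgClosed k] [CommRing A]
    [CommRing B] [Algebra k A] [Algebra k B] [IsDomain A] [IsDomain B] :
    IsDomain (A ⊗[k] B) := by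
  have : Nontrivial (A ⊗[k] B) :=
    (Algebra.TensorProduct.includeLeft_injective (S := k)
      (FaithfulSMul.algebraMap_injective k B)).nontrivial
  suffices NoZeroDivisors (A ⊗[k] B) by convert NoZeroDivisors.to_isDomain (A ⊗[k] B)
  constructor
  intro x y hxy
  obtain ⟨D₁, h1, hx⟩ := exists_fg_and_mem_baseChange x
  obtain ⟨D₂, h2, hy⟩ := exists_fg_and_mem_baseChange y
  have hD : (D₁ ⊔ D₂).FG := h1.sup h2
  let g : A ⊗[k] (D₁ ⊔ D₂ : Subalgebra k B) →ₐ[A] A ⊗[k] B :=
    Algebra.TensorProduct.map (AlgHom.id A A) (D₁ ⊔ D₂).val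
  have hg : Function.Injective g := by
    exact Module.Flat.lTensor_preserves_injective_linearMap (D₁ ⊔ D₂).val.toLinearMap
      Subtype.val_injective
  have : Algebra.FiniteType k (D₁ ⊔ D₂ : Subalgebra k B) := Subalgebra.fg_iff_finiteType _ |>.mp hD
  have := isDomain_tensor_fg_of_isAlgClosed (k := k) (A := A) (B := (D₁ ⊔ D₂ : Subalgebra k B))
  have hin : ∀ (D : Subalgebra k B), D ≤ D₁ ⊔ D₂ → ∀ z ∈ D.baseChange A, ∃ z', g z' = z := by
    intro D hle z hz
    obtain ⟨w, rfl⟩ := hz
    refine ⟨Algebra.TensorProduct.map (AlgHom.id A A) (Subalgebra.inclusion hle) w, ?_⟩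
    induction w using TensorProduct.induction_on with
    | zero => simp
    | tmul a b => rfl
    | add a b ha hb => simp only [map_add, ha, hb]
  obtain ⟨x', rfl⟩ := hin D₁ le_sup_left x hx
  obtain ⟨y', rfl⟩ := hin D₂ le_sup_right y hy
  rw [← map_mul] at hxy
  rcases mul_eq_zero.mp (hg (hxy.trans (map_zero g).symm)) with h | h
  · exact Or.inl (by rw [h, map_zero])
  · exact Or.inr (by rw [h, map_zero])

variable {k : Type u} [Field k] {X : Scheme.{u}} {f : X ⟶ Spec (CommRingCat.of k)} {x : X}

theorem isGeomReducedAt_of_isGeometricallyReduced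
    (h : Algebra.IsGeometricallyReduced k (Ox f x)) : _root_.FBase.IsGeomReducedAt f x := by
  intro K _ _ x' hx'
  obtain ⟨q, rfl⟩ := exists_j_eq f x K x' (specializes_of_eq hx')
  have := GeomRed.isReduced_tensor_field (k := k) (A := Ox f x) K
  exact isReduced_of_injective (stalkEquiv f x K q) (RingEquiv.injective _)

theorem isGeometricallyReduced_of_isGeomReducedAt (h : _root_.FBase.IsGeomReducedAt f x) :
    Algebra.IsGeometricallyReduced k (Ox f x) := by
  rw [Algebra.isGeometricallyReduced_field_iff]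
  let k' := AlgebraicClosure k
  suffices _root_.IsReduced (Ox f x ⊗[k] k') from
    isReduced_of_injective (Algebra.TensorProduct.comm k k' (Ox f x)) (AlgEquiv.injective _)
  refine isReduced_ofLocalizationMaximal _ fun Q _ => ?_
  let q : Spec (CommRingCat.of (Ox f x ⊗[k] k')) := (⟨Q, inferInstance⟩ : PrimeSpectrum _)
  have : Algebra.IsIntegral (Ox f x) (Ox f x ⊗[k] k') := inferInstance
  have hq : (_root_.FBase.bcπ f k') (j f x k' q) = x := (j_π_eq_iff f x k' q).mpr
    (IsLocalRing.eq_maximalIdeal (Ideal.isMaximal_comap_of_isIntegral_of_isMaximal Q))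
  have := h k' (j f x k' q) hq
  exact isReduced_of_injective (stalkEquiv f x k' q).symm (RingEquiv.injective _)

theorem isGeomReducedAt_iff :
    _root_.FBase.IsGeomReducedAt f x ↔ Algebra.IsGeometricallyReduced k (Ox f x) :=
  ⟨isGeometricallyReduced_of_isGeomReducedAt, isGeomReducedAt_of_isGeometricallyReduced⟩

theorem isReduced_of_flat_localization {A B : Type u} [CommRing A] [CommRing B] [Algebra A B]
    [Module.Flat A B] [Nontrivial A] (q : Ideal B) [q.IsPrime]
    (hA : ∀ Q : Ideal A, Q.IsMaximal → Q = q.comap (algebraMap A B))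
    [_root_.IsReduced (Localization.AtPrime q)] : _root_.IsReduced A := by
  obtain ⟨M, hM⟩ := Ideal.exists_maximal A
  have : IsLocalRing A := IsLocalRing.of_unique_max_ideal
    ⟨M, hM, fun Q hQ => (hA Q hQ).trans (hA M hM).symm⟩
  let T := Localization.AtPrime q
  have : Module.Flat B T := IsLocalization.flat T q.primeCompl
  have : Module.Flat A T := Module.Flat.trans A B T
  have : IsLocalHom (algebraMap A T) := by
    refine ⟨fun a ha => ?_⟩
    by_contra hna
    rw [IsScalarTower.algebraMap_apply A B T, IsLocalization.AtPrime.isUnit_to_map_iff T q] at ha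
    have hmem : a ∈ IsLocalRing.maximalIdeal A := hna
    rw [hA _ (IsLocalRing.maximalIdeal.isMaximal A)] at hmem
    exact ha hmem
  have : Module.FaithfullyFlat A T := .of_flat_of_isLocalHom
  exact isReduced_of_injective (algebraMap A T) (FaithfulSMul.algebraMap_injective A T)

/-- A local algebra with one reduced local ring above the closed point after a perfect extension is
geometrically reduced. -/
theorem isGeometricallyReduced_of_perfect' {R P Ω : Type u} [CommRing R] [IsLocalRing R]
    [Algebra k R] [Field P] [Algebra k P] [IsPurelyInseparable k P] [PerfectField P]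
    [Field Ω] [Algebra k Ω] [Algebra P Ω] [IsScalarTower k P Ω] (q : Ideal (R ⊗[k] Ω)) [q.IsPrime]
    (hq : q.comap (algebraMap R (R ⊗[k] Ω)) = IsLocalRing.maximalIdeal R)
    [_root_.IsReduced (Localization.AtPrime q)] : Algebra.IsGeometricallyReduced k R := by
  let g : R ⊗[k] P →ₐ[R] R ⊗[k] Ω :=
    Algebra.TensorProduct.map (AlgHom.id R R) (IsScalarTower.toAlgHom k P Ω)
  let _ : Algebra (R ⊗[k] P) (R ⊗[k] Ω) := g.toRingHom.toAlgebra
  have : Module.Flat (R ⊗[k] P) (R ⊗[k] Ω) := by
    have hg : g.toRingHom.Flat := by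
      let ε : Ω ⊗[P] (P ⊗[k] R) ≃+* R ⊗[k] Ω :=
        (Algebra.TensorProduct.cancelBaseChange k P Ω Ω R).toRingEquiv.trans
          (Algebra.TensorProduct.comm k Ω R).toRingEquiv
      let c : R ⊗[k] P ≃+* P ⊗[k] R := (Algebra.TensorProduct.comm k R P).toRingEquiv
      have hl : (algebraMap (P ⊗[k] R) ((P ⊗[k] R) ⊗[P] Ω)).Flat :=
        RingHom.flat_algebraMap_iff.mpr inferInstance
      have hι := hl.comp (RingHom.Flat.of_bijective
        (f := (Algebra.TensorProduct.comm P (P ⊗[k] R) Ω).toRingEquiv.toRingHom)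
        (Algebra.TensorProduct.comm P (P ⊗[k] R) Ω).bijective)
      have he : g.toRingHom = ε.toRingHom.comp
          (((Algebra.TensorProduct.comm P (P ⊗[k] R) Ω).toRingEquiv.toRingHom.comp
            (algebraMap (P ⊗[k] R) ((P ⊗[k] R) ⊗[P] Ω))).comp c.toRingHom) := by
        ext r <;> simp [g, ε, c, Algebra.TensorProduct.cancelBaseChange_tmul, Algebra.smul_def]
      rw [he]
      exact RingHom.Flat.comp (RingHom.Flat.comp (RingHom.Flat.of_bijective c.bijective) hι)
        (RingHom.Flat.of_bijective ε.bijective)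
    exact hg
  have : Nontrivial (R ⊗[k] P) :=
    (Algebra.TensorProduct.includeLeft_injective (S := k)
      (FaithfulSMul.algebraMap_injective k P)).nontrivial
  have hA : _root_.IsReduced (R ⊗[k] P) := isReduced_of_flat_localization q fun Q hQ => by
    have hhom : IsHomeomorph (PrimeSpectrum.comap (algebraMap R (R ⊗[k] P))) :=
      PrimeSpectrum.isHomeomorph_comap_of_isPurelyInseparable k P R
    let p2 : Ideal (R ⊗[k] P) := q.comap g.toRingHom
    have h1 : Q.comap (algebraMap R (R ⊗[k] P)) = IsLocalRing.maximalIdeal R :=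
      IsLocalRing.eq_maximalIdeal (Ideal.isMaximal_comap_of_isIntegral_of_isMaximal _)
    have h2 : p2.comap (algebraMap R (R ⊗[k] P)) = IsLocalRing.maximalIdeal R := by
      rw [Ideal.comap_comap]
      convert hq using 2
      exact g.comp_algebraMap
    exact congrArg PrimeSpectrum.asIdeal (hhom.injective (a₁ := ⟨Q, inferInstance⟩)
      (a₂ := ⟨p2, inferInstance⟩) (PrimeSpectrum.ext (h1.trans h2.symm)))
  have : _root_.IsReduced (P ⊗[k] R) :=
    isReduced_of_injective (Algebra.TensorProduct.comm k P R) (AlgEquiv.injective _)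
  have := GeomRed.isGeometricallyReduced_of_perfectField (k := P) (A := P ⊗[k] R)
  let L := AlgebraicClosure P
  have h2 : _root_.IsReduced (L ⊗[P] (P ⊗[k] R)) :=
    (Algebra.isGeometricallyReduced_field_iff P (P ⊗[k] R)).mp ‹_›
  have h3 : _root_.IsReduced (L ⊗[k] R) :=
    isReduced_of_injective (Algebra.TensorProduct.cancelBaseChange k P L L R).symm
      (AlgEquiv.injective _)
  rw [Algebra.isGeometricallyReduced_field_iff]
  have : Algebra.IsAlgebraic k P := inferInstance
  have : Algebra.IsAlgebraic k L := Algebra.IsAlgebraic.trans k P L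
  let i : AlgebraicClosure k →ₐ[k] L := IsAlgClosed.lift
  exact isReduced_of_injective (Algebra.TensorProduct.map i (AlgHom.id k R))
    (Module.Flat.rTensor_preserves_injective_linearMap _ (RingHom.injective _))

theorem isGeometricallyReduced_of_perfect {R Ω : Type u} [CommRing R] [IsLocalRing R] [Algebra k R]
    [Field Ω] [Algebra k Ω] [PerfectField Ω] (q : Ideal (R ⊗[k] Ω)) [q.IsPrime]
    (hq : q.comap (algebraMap R (R ⊗[k] Ω)) = IsLocalRing.maximalIdeal R)
    [_root_.IsReduced (Localization.AtPrime q)] : Algebra.IsGeometricallyReduced k R :=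
  isGeometricallyReduced_of_perfect' (P := perfectClosure k Ω) q hq

theorem isGeomReducedAt_of_perfect {Ω : Type u} [Field Ω] [Algebra k Ω] [PerfectField Ω]
    (x' : ↥(_root_.FBase.bc f Ω)) (hx' : (_root_.FBase.bcπ f Ω) x' = x)
    (h : _root_.FBase.IsReducedAt (_root_.FBase.bc f Ω) x') : _root_.FBase.IsGeomReducedAt f x := by
  obtain ⟨q, rfl⟩ := exists_j_eq f x Ω x' (specializes_of_eq hx')
  have : _root_.IsReduced ((_root_.FBase.bc f Ω).presheaf.stalk (j f x Ω q)) := h
  have : _root_.IsReduced (Localization.AtPrime (PrimeSpectrum.asIdeal (R := Ox f x ⊗[k] Ω) q)) :=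
    isReduced_of_injective (stalkEquiv f x Ω q).symm (RingEquiv.injective _)
  exact isGeomReducedAt_of_isGeometricallyReduced
    (isGeometricallyReduced_of_perfect _ ((j_π_eq_iff f x Ω q).mp hx'))

theorem isGeomPtIntegralAt_iff_isDomain [IsAlgClosed k] :
    _root_.FBase.IsGeomPtIntegralAt f x ↔ IsDomain (Ox f x) := by
  constructor
  · intro h
    let c := (Algebra.TensorProduct.rid k k (Ox f x)).toRingEquiv
    let Q : Ideal (Ox f x ⊗[k] k) := (IsLocalRing.maximalIdeal (Ox f x)).comap c.toRingHom
    have : Q.IsMaximal := Ideal.comap_isMaximal_of_surjective _ c.surjective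
    let q : Spec (CommRingCat.of (Ox f x ⊗[k] k)) := (⟨Q, inferInstance⟩ : PrimeSpectrum _)
    have hq : (_root_.FBase.bcπ f k) (j f x k q) = x := (j_π_eq_iff f x k q).mpr (by
      ext r
      simp [q, Q, c])
    have := h k (j f x k q) hq
    have : IsDomain (Localization.AtPrime Q) :=
      (stalkEquiv f x k q).symm.injective.isDomain (stalkEquiv f x k q).symm.toRingHom
    refine Function.Injective.isDomain
      ((algebraMap (Ox f x ⊗[k] k) (Localization.AtPrime Q)).comp c.symm.toRingHom) ?_
    rw [injective_iff_map_eq_zero]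
    intro r hr
    obtain ⟨⟨s, hs⟩, hsr⟩ := (IsLocalization.map_eq_zero_iff Q.primeCompl _ _).mp hr
    have hu : IsUnit (c s) := IsLocalRing.notMem_maximalIdeal.mp hs
    have h0 := congrArg c hsr
    simp only [map_mul, map_zero, RingEquiv.toRingHom_eq_coe, RingEquiv.coe_toRingHom,
      RingEquiv.apply_symm_apply] at h0
    exact hu.mul_right_eq_zero.mp h0
  · intro h K _ _ x' hx'
    obtain ⟨q, rfl⟩ := exists_j_eq f x K x' (specializes_of_eq hx')
    have := isDomain_tensor_of_isAlgClosed (k := k) (A := Ox f x) (B := K)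
    have := IsLocalization.isDomain_localization
      (Ideal.primeCompl_le_nonZeroDivisors (PrimeSpectrum.asIdeal (R := Ox f x ⊗[k] K) q))
    exact (stalkEquiv f x K q).injective.isDomain (stalkEquiv f x K q).toRingHom

end Groth.Agent.H52.FBase.GeomPt
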