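import Groth.Agent.H52.FBase.GeomPt
import Groth.Agent.H52.FBase.Descend
import Mathlib.AlgebraicGeometry.Noetherian

/-!
Geometric pointwise properties: openness of the geometrically reduced locus, base change.
-/

universe u

open CategoryTheory CategoryTheory.Limits AlgebraicGeometry TensorProduct
open Groth.Agent.H52.FBase

namespace Groth.Agent.H52.FBase.GeomPtSch

theorem exists_injective_germ {X : Scheme.{u}} [IsLocallyNoetherian X] (x : X) :
    ∃ (U : X.Opens) (_ : IsAffineOpen U) (hx : x ∈ U),
      Function.Injective (X.presheaf.germ U x hx) := by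
  obtain ⟨U, hU, hxU, -⟩ :=
    exists_isAffineOpen_mem_and_subset (X := X) (x := x) (U := ⊤) (Set.mem_univ x)
  let _ : Algebra Γ(X, U) (X.presheaf.stalk x) := (X.presheaf.germ U x hxU).hom.toAlgebra
  have := hU.isLocalization_stalk ⟨x, hxU⟩
  have : IsNoetherianRing Γ(X, U) := IsLocallyNoetherian.component_noetherian ⟨U, hU⟩
  let J := RingHom.ker (X.presheaf.germ U x hxU).hom
  obtain ⟨s, hs⟩ := IsNoetherian.noetherian J
  have hkill : ∀ a ∈ J, ∃ g : Γ(X, U), g ∈ (hU.primeIdealOf ⟨x, hxU⟩).asIdeal.primeCompl ∧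
      g * a = 0 := by
    intro a ha
    obtain ⟨⟨g, hg⟩, h⟩ := (IsLocalization.map_eq_zero_iff
      (hU.primeIdealOf ⟨x, hxU⟩).asIdeal.primeCompl (X.presheaf.stalk x) a).mp ha
    exact ⟨g, hg, h⟩
  have : ∀ a : s, ∃ g : Γ(X, U), g ∈ (hU.primeIdealOf ⟨x, hxU⟩).asIdeal.primeCompl ∧
      g * a.1 = 0 := fun a => hkill a.1 (hs ▸ Ideal.subset_span a.2)
  choose g hg hga using this
  let G := ∏ a, g a
  have hG : G ∈ (hU.primeIdealOf ⟨x, hxU⟩).asIdeal.primeCompl :=
    Submonoid.prod_mem _ fun a _ => hg a
  have hGJ : ∀ a ∈ J, G * a = 0 := by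
    intro a ha
    have hle : J ≤ LinearMap.ker (LinearMap.mulLeft Γ(X, U) G) := by
      rw [← hs, Submodule.span_le]
      intro b hb
      obtain ⟨c, hc⟩ := Finset.dvd_prod_of_mem g (Finset.mem_univ (⟨b, hb⟩ : s))
      show G * b = 0
      rw [show G = g ⟨b, hb⟩ * c from hc, mul_right_comm, hga ⟨b, hb⟩, zero_mul]
    exact hle ha
  have hxb : x ∈ X.basicOpen G := by
    rw [Scheme.mem_basicOpen _ _ _ hxU]
    exact IsLocalization.map_units (X.presheaf.stalk x) (⟨G, hG⟩ : (hU.primeIdealOf ⟨x, hxU⟩).asIdeal.primeCompl)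
  refine ⟨X.basicOpen G, hU.basicOpen G, hxb, ?_⟩
  rw [injective_iff_map_eq_zero]
  intro b hb
  have := hU.isLocalization_basicOpen G
  obtain ⟨⟨a, ⟨_, n, rfl⟩⟩, hab⟩ := IsLocalization.surj (Submonoid.powers G) b
  dsimp only at hab
  have hmap : ∀ c : Γ(X, U), algebraMap Γ(X, U) Γ(X, X.basicOpen G) c =
      X.presheaf.map (homOfLE (X.basicOpen_le G)).op c := fun c => rfl
  have ha : X.presheaf.germ U x hxU a = 0 := by
    rw [← X.presheaf.germ_res_apply (homOfLE (X.basicOpen_le G)) x hxb a, ← hmap, ← hab,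
      map_mul, hb, zero_mul]
  have h0 : algebraMap Γ(X, U) Γ(X, X.basicOpen G) (G * a) = 0 := by
    rw [hGJ a ha, map_zero]
  rw [map_mul] at h0
  have hu : IsUnit (algebraMap Γ(X, U) Γ(X, X.basicOpen G) G) :=
    IsLocalization.map_units _ (⟨G, 1, pow_one G⟩ : Submonoid.powers G)
  rw [hu.mul_right_eq_zero] at h0
  rw [h0] at hab
  have hun : IsUnit (algebraMap Γ(X, U) Γ(X, X.basicOpen G) (G ^ n)) := by
    rw [map_pow]; exact hu.pow n
  exact hun.mul_left_eq_zero.mp hab

theorem isOpen_geomReduced {k : Type u} [Field k] {X : Scheme.{u}} [IsLocallyNoetherian X]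
    (f : X ⟶ Spec (CommRingCat.of k)) : IsOpen {x : X | _root_.FBase.IsGeomReducedAt f x} := by
  rw [isOpen_iff_forall_mem_open]
  intro x hx
  obtain ⟨U, hU, hxU, hinj⟩ := exists_injective_germ x
  refine ⟨U, fun y hy => ?_, U.isOpen, hxU⟩
  have hO := GeomPt.isGeometricallyReduced_of_isGeomReducedAt (f := f) hx
  let ψ : k →+* Γ(X, U) := (Spec.preimage (hU.fromSpec ≫ f)).hom
  let _ : Algebra k Γ(X, U) := ψ.toAlgebra
  have hψ : Spec.map (CommRingCat.ofHom (algebraMap k Γ(X, U))) = hU.fromSpec ≫ f :=
    Spec.map_preimage _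
  have hcomm : (X.presheaf.germ U x hxU).hom.comp ψ = StalkBC.φ f x := by
    refine congrArg CommRingCat.Hom.hom (Spec.map_injective
      (a₁ := CommRingCat.ofHom ψ ≫ X.presheaf.germ U x hxU) (a₂ := CommRingCat.ofHom (StalkBC.φ f x)) ?_)
    refine (Spec.map_comp _ _).trans (Eq.trans ?_ (StalkBC.specMap_φ f x).symm)
    rw [← hU.fromSpecStalk_eq_fromSpecStalk hxU, IsAffineOpen.fromSpecStalk, Category.assoc, ← hψ]
    try rfl
  let g : Γ(X, U) →ₐ[k] StalkBC.Ox f x :=
    { toRingHom := (X.presheaf.germ U x hxU).hom, commutes' := fun c => congr($hcomm c) }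
  have : Algebra.IsGeometricallyReduced k Γ(X, U) :=
    Algebra.IsGeometricallyReduced.of_injective g hinj
  intro K _ _ y' hy'
  let σ := Spec.map (CommRingCat.ofHom (algebraMap k K))
  have hT : _root_.IsReduced (Γ(X, U) ⊗[k] K) := GeomRed.isReduced_tensor_field K
  have : IsReduced (Spec (CommRingCat.of (Γ(X, U) ⊗[k] K))) := (affine_isReduced_iff _).mpr hT
  have : IsReduced (pullback (hU.fromSpec ≫ f) σ) := by
    rw [← hψ]
    exact isReduced_of_isOpenImmersion (pullbackSpecIso k Γ(X, U) K).hom
  have : IsReduced (pullback hU.fromSpec (pullback.fst f σ)) :=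
    isReduced_of_isOpenImmersion (pullbackRightPullbackFstIso f σ hU.fromSpec).hom
  obtain ⟨p, hp⟩ : y ∈ Set.range hU.fromSpec := by rwa [hU.range_fromSpec]
  obtain ⟨z, -, hz⟩ := Scheme.Pullback.exists_preimage_pullback p y'
    (f := hU.fromSpec) (g := pullback.fst f σ) (hp.trans hy'.symm)
  let J : pullback hU.fromSpec (pullback.fst f σ) ⟶ pullback f σ := pullback.snd _ _
  have hz' : J z = y' := hz
  subst hz'
  have : IsIso (J.stalkMap z) := inferInstance
  exact isReduced_of_injective (J.stalkMap z).hom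
    (ConcreteCategory.bijective_of_isIso (J.stalkMap z)).1

theorem isDomain_stalk_of_above {S X A B : Scheme.{u}} (f : X ⟶ S) (a : A ⟶ S) (b : B ⟶ S)
    [Flat b] (x' : ↥(pullback f a)) (y : ↥(pullback f b))
    (hy : pullback.fst f b y = pullback.fst f a x')
    {Ω : Scheme.{u}} (γ : Ω ⟶ A) (δ : Ω ⟶ B) [Flat δ] (hδ : δ ≫ b = γ ≫ a)
    (z : ↥(pullback (pullback.snd f a) γ))
    (hzK : pullback.fst (pullback.snd f a) γ z = x')
    (g : pullback (pullback.snd f a) γ ⟶ pullback f b)
    (hg1 : g ≫ pullback.fst f b = pullback.fst _ _ ≫ pullback.fst f a)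
    (hg2 : g ≫ pullback.snd f b = pullback.snd _ _ ≫ δ)
    (hzL : g z = y)
    (hd : IsDomain ((pullback (pullback.snd f a) γ).presheaf.stalk z)) :
    IsDomain ((pullback f b).presheaf.stalk y) := by
  subst hzL
  have : Flat g := by
    let e : pullback (pullback.snd f a) γ ≅ pullback (pullback.snd f b) δ :=
      pullbackLeftPullbackSndIso f a γ ≪≫ pullback.congrHom rfl hδ.symm ≪≫
        (pullbackLeftPullbackSndIso f b δ).symm
    have hge : g = e.hom ≫ pullback.fst _ _ := by
      apply pullback.hom_ext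
      · simp [e, hg1, pullback.congrHom, pullback.map]
        erw [pullback.lift_fst]
        simp
      · rw [hg2, Category.assoc, pullback.condition]
        simp [e, pullback.congrHom, pullback.map]
        erw [pullback.lift_snd_assoc]
        simp
    rw [hge]
    infer_instance
  algebraize [(g.stalkMap z).hom]
  have : Module.Flat ((pullback f b).presheaf.stalk (g z))
      ((pullback (pullback.snd f a) γ).presheaf.stalk z) := Flat.stalkMap g z
  have : IsLocalHom (algebraMap ((pullback f b).presheaf.stalk (g z))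
      ((pullback (pullback.snd f a) γ).presheaf.stalk z)) :=
    inferInstanceAs (IsLocalHom (g.stalkMap z).hom)
  have : Module.FaithfullyFlat ((pullback f b).presheaf.stalk (g z))
      ((pullback (pullback.snd f a) γ).presheaf.stalk z) := .of_flat_of_isLocalHom
  exact (FaithfulSMul.algebraMap_injective ((pullback f b).presheaf.stalk (g z))
      ((pullback (pullback.snd f a) γ).presheaf.stalk z)).isDomain
    (algebraMap ((pullback f b).presheaf.stalk (g z))
      ((pullback (pullback.snd f a) γ).presheaf.stalk z))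

theorem isGeomPtIntegralAt_bc_iff {k K : Type u} [Field k] [Field K] [Algebra k K]
    {X : Scheme.{u}} (f : X ⟶ Spec (CommRingCat.of k)) (x' : ↥(_root_.FBase.bc f K)) :
    _root_.FBase.IsGeomPtIntegralAt f ((_root_.FBase.bcπ f K) x') ↔
      _root_.FBase.IsGeomPtIntegralAt (_root_.FBase.bcStr f K) x' := by
  constructor
  · intro h L _ _ z hz
    let _ : Algebra k L := ((algebraMap K L).comp (algebraMap k K)).toAlgebra
    have : IsScalarTower k K L := .of_algebraMap_eq fun _ => rfl
    let σK := Spec.map (CommRingCat.ofHom (algebraMap k K))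
    let σL := Spec.map (CommRingCat.ofHom (algebraMap k L))
    let τ := Spec.map (CommRingCat.ofHom (algebraMap K L))
    have hσ : τ ≫ σK = σL := by
      simp only [τ, σK, σL]
      rw [← Spec.map_comp]
      rfl
    let e : pullback (pullback.snd f σK) τ ≅ pullback f σL :=
      pullbackLeftPullbackSndIso f σK _ ≪≫ pullback.congrHom rfl hσ
    have hπ : e.hom ≫ pullback.fst f σL = pullback.fst _ τ ≫ pullback.fst f σK := by
      simp [e, pullback.congrHom, pullback.map]
      erw [pullback.lift_fst]
      simp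
    have hd := h L (e.hom z) (by
      rw [← hz]
      exact congrArg (fun m : pullback (pullback.snd f σK) τ ⟶ X => m z) hπ)
    let ε := RingEquiv.ofBijective (e.hom.stalkMap z).hom
      (StalkBC.bijective_stalkMap e.hom z)
    have hd' : IsDomain ((pullback f σL).presheaf.stalk (e.hom z)) := hd
    exact ε.symm.injective.isDomain ε.symm.toRingHom
  · intro h L _ _ y hy
    let a := Spec.map (CommRingCat.ofHom (algebraMap k K))
    let b := Spec.map (CommRingCat.ofHom (algebraMap k L))
    obtain ⟨p, hp1, hp2⟩ := Scheme.Pullback.exists_preimage_pullback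
      (f := pullback.fst f a) (g := pullback.fst f b) x' y hy.symm
    let W := pullback (pullback.fst f a) (pullback.fst f b)
    let Ω := W.residueField p
    let mK := W.fromSpecResidueField p ≫ pullback.fst (pullback.fst f a) (pullback.fst f b)
    let mL := W.fromSpecResidueField p ≫ pullback.snd (pullback.fst f a) (pullback.fst f b)
    have hm : mK ≫ pullback.fst f a = mL ≫ pullback.fst f b := by
      simp [mK, mL, pullback.condition]
    let γ : K →+* Ω := (Spec.preimage (mK ≫ pullback.snd f a)).hom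
    have hγ : Spec.map (CommRingCat.ofHom γ) = mK ≫ pullback.snd f a := Spec.map_preimage _
    let δ : L →+* Ω := (Spec.preimage (mL ≫ pullback.snd f b)).hom
    have hδ : Spec.map (CommRingCat.ofHom δ) = mL ≫ pullback.snd f b := Spec.map_preimage _
    have hδ' : Spec.map (CommRingCat.ofHom δ) ≫ b = Spec.map (CommRingCat.ofHom γ) ≫ a := by
      rw [hγ, hδ]
      have hc : mL ≫ pullback.fst f b ≫ f = mK ≫ pullback.fst f a ≫ f := by
        rw [← Category.assoc, ← Category.assoc, hm]
      exact (Category.assoc _ _ _).trans (((congrArg (mL ≫ ·) pullback.condition.symm).trans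
        (hc.trans (congrArg (mK ≫ ·) pullback.condition))).trans (Category.assoc _ _ _).symm)
    let _ : Algebra K Ω := γ.toAlgebra
    let z₀ : Spec (CommRingCat.of Ω) ⟶
        pullback (pullback.snd f a) (Spec.map (CommRingCat.ofHom (algebraMap K Ω))) :=
      pullback.lift mK (𝟙 _) (by rw [Category.id_comp]; exact hγ.symm)
    let g : pullback (pullback.snd f a) (Spec.map (CommRingCat.ofHom (algebraMap K Ω))) ⟶
        pullback f b :=
      pullback.lift (pullback.fst _ _ ≫ pullback.fst f a)
        (pullback.snd _ _ ≫ Spec.map (CommRingCat.ofHom δ)) (by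
          rw [Category.assoc, Category.assoc, hδ', pullback.condition, pullback.condition_assoc])
    have hg : z₀ ≫ g = mL := by
      apply pullback.hom_ext
      · rw [Category.assoc, pullback.lift_fst, pullback.lift_fst_assoc]
        exact hm
      · rw [Category.assoc, pullback.lift_snd, pullback.lift_snd_assoc, Category.id_comp, hδ]
    have hzK : pullback.fst (pullback.snd f a) (Spec.map (CommRingCat.ofHom (algebraMap K Ω)))
        (z₀ default) = x' := by
      rw [← Scheme.Hom.comp_apply, pullback.lift_fst]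
      simp only [mK, Scheme.Hom.comp_apply]
      exact (congrArg _ (Scheme.fromSpecResidueField_apply _ _)).trans hp1
    have hzL : g (z₀ default) = y := by
      rw [← Scheme.Hom.comp_apply, hg]
      simp only [mL, Scheme.Hom.comp_apply]
      exact (congrArg _ (Scheme.fromSpecResidueField_apply _ _)).trans hp2
    have : Flat (Spec.map (CommRingCat.ofHom δ)) := by
      let _ : Algebra L Ω := δ.toAlgebra
      exact Descend.flat_specMap_field L Ω
    exact isDomain_stalk_of_above f a b x' y hy _ _ hδ' (z₀ default) hzK g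
      (pullback.lift_fst _ _ _) (pullback.lift_snd _ _ _) hzL (h Ω (z₀ default) hzK)

end Groth.Agent.H52.FBase.GeomPtSch
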