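import Groth.Agent.H52.FBase.NoEmb

/-!
A product of two integral schemes over a field has no embedded points.
-/

universe u

open CategoryTheory CategoryTheory.Limits AlgebraicGeometry TensorProduct
open Groth.Agent.Lib.AssPt.Basic Groth.Agent.Lib.Flat55

namespace Groth.Agent.H52.FBase.NoEmb

theorem minimalPrimes_of_isField {k A L : Type u} [Field k] [CommRing A] [IsLocalRing A]
    [CommRing L] [Algebra k A] [Algebra k L] (hL : IsField L) {N : ℕ}
    (hN : IsLocalRing.maximalIdeal A ^ N = ⊥) (q : Ideal (A ⊗[k] L)) [q.IsPrime]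
    (h : IsAssociatedPrime (IsLocalRing.maximalIdeal (Localization.AtPrime q)) (Localization.AtPrime q)) :
    q ∈ minimalPrimes (A ⊗[k] L) := by
  let := hL.toField
  exact TensorPrimary.minimalPrimes_tensor_field hN q h

theorem isField_stalk {X : Scheme.{u}} [AlgebraicGeometry.IsReduced X] (x : X)
    (hx : x ∈ genericPoints X) : IsField (X.presheaf.stalk x) := by
  rw [IsLocalRing.isField_iff_maximalIdeal_eq, eq_bot_iff]
  exact fun a ha => ((mem_genericPoints_iff x).mp hx a ha).eq_zero

theorem noEmbedded_prod {k : Type u} [Field k] {X Y : Scheme.{u}}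
    (f : X ⟶ Spec (CommRingCat.of k)) (g : Y ⟶ Spec (CommRingCat.of k)) [IsIntegral X] [IsIntegral Y]
    [IsLocallyNoetherian X] [IsLocallyNoetherian Y] [IsLocallyNoetherian (pullback f g)] :
    AssSch.NoEmbedded (Coh.structureModule (pullback f g)) := by
  rw [noEmbedded_iff]
  intro z hz
  have : Flat f := Groth.Agent.Lib.FibreDeg.Basic.flat_of_field f
  have : Flat g := Groth.Agent.Lib.FibreDeg.Basic.flat_of_field g
  obtain ⟨x, hxz⟩ : ∃ x, pullback.fst f g z = x := ⟨_, rfl⟩
  obtain ⟨y, hyz⟩ : ∃ y, pullback.snd f g z = y := ⟨_, rfl⟩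
  have hx : x ∈ genericPoints X :=
    GenericPoints.mem_of_forall_specializes ((maxAssoc_iff_maximalPoint x).mp
      (hxz ▸ maxAssoc_map_of_flat (pullback.fst f g) z hz))
  have hy : y ∈ genericPoints Y :=
    GenericPoints.mem_of_forall_specializes ((maxAssoc_iff_maximalPoint y).mp
      (hyz ▸ maxAssoc_map_of_flat (pullback.snd f g) z hz))
  have hfx : IsField (StalkBC.Ox f x) := isField_stalk x hx
  have hfy : IsField (StalkBC.Ox g y) := isField_stalk y hy
  let σ := Spec.map (CommRingCat.ofHom (algebraMap k (StalkBC.Ox f x)))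
  let τ := Spec.map (CommRingCat.ofHom (algebraMap k (StalkBC.Ox g y)))
  let w : pullback σ τ ⟶ pullback f g :=
    pullback.map σ τ f g (StalkBC.fromOx f x) (StalkBC.fromOx g y) (𝟙 _)
      ((Category.comp_id _).trans (StalkBC.specMap_alg f x))
      ((Category.comp_id _).trans (StalkBC.specMap_alg g y))
  have : Flat w := MorphismProperty.pullbackMap (P := @Flat) inferInstance inferInstance
    (StalkBC.specMap_alg f x) (StalkBC.specMap_alg g y)
  have : IsPreimmersion w :=
    haveI : MorphismProperty.IsStableUnderComposition (@IsPreimmersion : MorphismProperty Scheme.{u}) :=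
      ⟨fun f g _ _ => IsPreimmersion.comp f g⟩
    MorphismProperty.pullbackMap (P := (@IsPreimmersion : MorphismProperty Scheme.{u})) inferInstance inferInstance
    (StalkBC.specMap_alg f x) (StalkBC.specMap_alg g y)
  let j : Spec (CommRingCat.of (StalkBC.Ox f x ⊗[k] StalkBC.Ox g y)) ⟶ pullback f g :=
    (pullbackSpecIso k (StalkBC.Ox f x) (StalkBC.Ox g y)).inv ≫ w
  obtain ⟨p, hp⟩ : z ∈ Set.range w := by
    rw [Scheme.Pullback.range_map]
    exact ⟨⟨_, (StalkBC.fromOx_closedPoint f x).trans hxz.symm⟩,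
      ⟨_, (StalkBC.fromOx_closedPoint g y).trans hyz.symm⟩⟩
  obtain ⟨q, rfl⟩ := (pullbackSpecIso k (StalkBC.Ox f x) (StalkBC.Ox g y)).inv.surjective p
  have hjq : j q = z := hp
  have hz' : MaxAssoc ((pullback f g).presheaf.stalk (j q)) := hjq.symm ▸ hz
  rw [← hjq]
  have hq : (PrimeSpectrum.asIdeal (R := StalkBC.Ox f x ⊗[k] StalkBC.Ox g y) q).IsPrime := q.isPrime
  let e : (pullback f g).presheaf.stalk (j q) ≃+*
      Localization.AtPrime (PrimeSpectrum.asIdeal (R := StalkBC.Ox f x ⊗[k] StalkBC.Ox g y) q) :=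
    (RingEquiv.ofBijective (j.stalkMap q).hom (StalkBC.bijective_stalkMap j q)).trans
      (Spec.stalkIso _ q).commRingCatIsoToRingEquiv
  refine mem_genericPoints_of_minimal _ _ e ?_
  refine minimalPrimes_of_isField hfy (N := 1) ?_ _ (maxAssoc_of_ringEquiv e hz')
  rw [pow_one]
  exact IsLocalRing.isField_iff_maximalIdeal_eq.mp hfx

end Groth.Agent.H52.FBase.NoEmb
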