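import Groth.Agent.H52.FBase.BCReducedStalk
import Groth.Agent.H52.Ass.FlatTensorLength
import Groth.Agent.H52.FBase.NoEmbProd
import Groth.Agent.H52.FBase.GeomRedSch
import Groth.Agent.H75.RedSub

/-!
Lengths at generic points under field extension.
-/

universe u

open CategoryTheory CategoryTheory.Limits AlgebraicGeometry TensorProduct IsLocalRing
open Groth.Agent.Lib.Flat55

namespace Groth.Agent.H52.FBase.BCLength

open Groth.Agent.H52.Ass.FlatTensor

theorem length_of_flat {R S Q : Type u} [CommRing R] [IsLocalRing R] [IsNoetherianRing R] [CommRing S]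
    [Algebra R S] [Module.Flat R S] (hR : ∀ a ∈ maximalIdeal R, IsNilpotent a) [CommRing Q]
    (π : S →+* Q) (hπ : Function.Surjective π)
    (hker : RingHom.ker π = (maximalIdeal R).map (algebraMap R S)) :
    Module.length S S = Module.length R R * Module.length Q Q := by
  obtain ⟨N, hN⟩ := Groth.Agent.H52.FBase.NoEmb.exists_pow_eq_bot hR
  have : IsArtinianRing R := (isArtinianRing_iff_isNilpotent_maximalIdeal R).mpr ⟨N, hN⟩
  obtain ⟨n, hn⟩ := ENat.ne_top_iff_exists.mp
    (Module.length_ne_top_iff.mpr ((isFiniteLength_iff_isNoetherian_isArtinian (R := R) (M := R)).mpr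
      ⟨inferInstance, inferInstance⟩))
  have h := Groth.Agent.H52.Ass.FlatTensorScheme.length_tensor (R := R) (S := S) (N := S) n R hn.symm
  rw [(AlgebraTensorModule.rid R S S).length_eq] at h
  rw [h, hn]
  congr 1
  let _ : Algebra S Q := π.toAlgebra
  let e : (S ⧸ (mS R S • (⊤ : Submodule S S))) ≃ₗ[S] Q :=
    (Submodule.quotEquivOfEq _ (LinearMap.ker (Algebra.linearMap S Q)) (by
      rw [Ideal.smul_eq_mul, Ideal.mul_top]; exact hker.symm)).trans
      (LinearMap.quotKerEquivOfSurjective (Algebra.linearMap S Q) hπ)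
  rw [e.length_eq, Module.length_eq_of_surjective (M := Q) (S := S) (R := Q) hπ]

theorem length_core {U B B' : Scheme.{u}} (str : U ⟶ B) (σ : B' ⟶ B) [IsLocallyNoetherian U] [Flat σ]
    (x'' : ↥(pullback str σ)) (hx'' : ∀ z : ↥(pullback str σ), z ⤳ x'' → z = x'')
    (z'' : ↥(pullback (U.nilradical.subschemeι ≫ str) σ))
    (hz'' : pullback.map (U.nilradical.subschemeι ≫ str) σ str σ U.nilradical.subschemeι (𝟙 _) (𝟙 _)
        (Category.comp_id _) ((Category.comp_id _).trans (Category.id_comp _).symm) z'' = x'') :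
    Module.length ((pullback str σ).presheaf.stalk x'') ((pullback str σ).presheaf.stalk x'') =
        Module.length (U.presheaf.stalk (pullback.fst str σ x'')) (U.presheaf.stalk (pullback.fst str σ x'')) *
          Module.length ((pullback (U.nilradical.subschemeι ≫ str) σ).presheaf.stalk z'')
            ((pullback (U.nilradical.subschemeι ≫ str) σ).presheaf.stalk z'') ∧
      (∀ w, w ⤳ z'' → w = z'') := by
  let ι := U.nilradical.subschemeι
  let T := pullback str σ
  let h : T ⟶ U := pullback.fst str σ
  let q : pullback (ι ≫ str) σ ⟶ U.nilradical.subscheme := pullback.fst (ι ≫ str) σ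
  let j : pullback (ι ≫ str) σ ⟶ T :=
    pullback.map (ι ≫ str) σ str σ ι (𝟙 _) (𝟙 _) (Category.comp_id _)
      ((Category.comp_id _).trans (Category.id_comp _).symm)
  have hj1 : j ≫ h = q ≫ ι := pullback.lift_fst _ _ _
  have hj2 : j ≫ pullback.snd str σ = pullback.snd (ι ≫ str) σ :=
    (pullback.lift_snd _ _ _).trans (Category.comp_id _)
  have H : IsPullback j q h ι := by
    refine IsPullback.of_right ?_ hj1 (IsPullback.of_hasPullback str σ).flip
    rw [hj2]
    exact (IsPullback.of_hasPullback (ι ≫ str) σ).flip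
  have : IsPreimmersion j := MorphismProperty.of_isPullback (P := @IsPreimmersion) H.flip inferInstance
  have : AlgebraicGeometry.IsReduced U.nilradical.subscheme := by
    rw [← Scheme.IdealSheafData.vanishingIdeal_top]
    exact Groth.Agent.H75.RedSub.isReduced_vanishingIdeal _
  have hsurj : Surjective ι := ⟨fun x => Set.range_eq_univ.mp (by
    rw [Scheme.IdealSheafData.range_subschemeι, Scheme.support_nilradical]; rfl) x⟩
  have : Flat h := inferInstance
  obtain rfl : j z'' = x'' := hz''
  have hgen : j z'' ∈ genericPoints T := GenericPoints.mem_of_forall_specializes hx''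
  have hu : h (j z'') ∈ genericPoints U := GenericPoints.map_mem_of_flat h hgen
  have hzgen : q z'' ∈ genericPoints U.nilradical.subscheme := by
    refine GenericPoints.mem_of_forall_specializes fun v hv => ?_
    apply ι.isEmbedding.injective
    have e : h (j z'') = ι (q z'') := congrArg (fun m : pullback (ι ≫ str) σ ⟶ U => m z'') hj1
    exact GenericPoints.eq_of_specializes (e ▸ hu) (hv.map ι.continuous)
  have hfield : IsField (U.nilradical.subscheme.presheaf.stalk (q z'')) := Groth.Agent.H52.FBase.NoEmb.isField_stalk _ hzgen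
  have hker := Groth.Agent.H52.FBase.BCReducedStalk.ker_stalkMap H z'' hfield
  refine ⟨?_, fun w hw => j.isEmbedding.injective (hx'' _ (hw.map j.continuous))⟩
  let _ : Algebra (U.presheaf.stalk (h (j z''))) (T.presheaf.stalk (j z'')) := (h.stalkMap (j z'')).hom.toAlgebra
  have : Module.Flat (U.presheaf.stalk (h (j z''))) (T.presheaf.stalk (j z'')) := Flat.stalkMap h (j z'')
  exact length_of_flat (R := U.presheaf.stalk (h (j z''))) ((Groth.Agent.H52.FBase.NoEmb.mem_genericPoints_iff _).mp hu)
    (j.stalkMap z'').hom (j.stalkMap_surjective z'') hker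


variable {k k' k'' : Type u} [Field k] [Field k'] [Field k''] [Algebra k k'] [Algebra k' k'']
  {X : Scheme.{u}} (f : X ⟶ Spec (CommRingCat.of k))

theorem length_bc [IsLocallyNoetherian (_root_.FBase.bc f k')]
    (x'' : ↥(_root_.FBase.bc (_root_.FBase.bcStr f k') k''))
    (hx'' : ∀ z : ↥(_root_.FBase.bc (_root_.FBase.bcStr f k') k''), z ⤳ x'' → z = x'')
    (z'' : ↥(_root_.FBase.bc ((_root_.FBase.bc f k').nilradical.subschemeι ≫ _root_.FBase.bcStr f k') k''))
    (hz'' : pullback.map ((_root_.FBase.bc f k').nilradical.subschemeι ≫ _root_.FBase.bcStr f k')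
        (Spec.map (CommRingCat.ofHom (algebraMap k' k''))) (_root_.FBase.bcStr f k')
        (Spec.map (CommRingCat.ofHom (algebraMap k' k''))) (_root_.FBase.bc f k').nilradical.subschemeι (𝟙 _) (𝟙 _)
        (Category.comp_id _) ((Category.comp_id _).trans (Category.id_comp _).symm) z'' = x'') :
    Module.length ((_root_.FBase.bc (_root_.FBase.bcStr f k') k'').presheaf.stalk x'') ((_root_.FBase.bc (_root_.FBase.bcStr f k') k'').presheaf.stalk x'') =
        Module.length ((_root_.FBase.bc f k').presheaf.stalk (_root_.FBase.bcπ (_root_.FBase.bcStr f k') k'' x''))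
            ((_root_.FBase.bc f k').presheaf.stalk (_root_.FBase.bcπ (_root_.FBase.bcStr f k') k'' x'')) *
          Module.length ((_root_.FBase.bc ((_root_.FBase.bc f k').nilradical.subschemeι ≫ _root_.FBase.bcStr f k') k'').presheaf.stalk z'')
            ((_root_.FBase.bc ((_root_.FBase.bc f k').nilradical.subschemeι ≫ _root_.FBase.bcStr f k') k'').presheaf.stalk z'') ∧
      (∀ w, w ⤳ z'' → w = z'') := by
  have : Flat (Spec.map (CommRingCat.ofHom (algebraMap k' k''))) := Groth.Agent.Lib.FibreDeg.Basic.flat_of_field _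
  exact length_core (_root_.FBase.bcStr f k') (Spec.map (CommRingCat.ofHom (algebraMap k' k''))) x'' hx'' z'' hz''

theorem length_bc_separable [IsLocallyNoetherian (_root_.FBase.bc f k')]
    [GeometricallyReduced (Spec.map (CommRingCat.ofHom (algebraMap k' k'')))]
    (x'' : ↥(_root_.FBase.bc (_root_.FBase.bcStr f k') k''))
    (hx'' : ∀ z : ↥(_root_.FBase.bc (_root_.FBase.bcStr f k') k''), z ⤳ x'' → z = x'') :
    Module.length ((_root_.FBase.bc (_root_.FBase.bcStr f k') k'').presheaf.stalk x'') ((_root_.FBase.bc (_root_.FBase.bcStr f k') k'').presheaf.stalk x'') =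
      Module.length ((_root_.FBase.bc f k').presheaf.stalk (_root_.FBase.bcπ (_root_.FBase.bcStr f k') k'' x''))
        ((_root_.FBase.bc f k').presheaf.stalk (_root_.FBase.bcπ (_root_.FBase.bcStr f k') k'' x'')) := by
  let U := _root_.FBase.bc f k'
  let str := _root_.FBase.bcStr f k'
  let ι := U.nilradical.subschemeι
  let σ := Spec.map (CommRingCat.ofHom (algebraMap k' k''))
  let j : pullback (ι ≫ str) σ ⟶ pullback str σ :=
    pullback.map (ι ≫ str) σ str σ ι (𝟙 _) (𝟙 _) (Category.comp_id _)
      ((Category.comp_id _).trans (Category.id_comp _).symm)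
  obtain ⟨z'', hz''⟩ : x'' ∈ Set.range j := by
    erw [Scheme.Pullback.range_map]
    refine ⟨?_, ⟨_, rfl⟩⟩
    rw [Scheme.IdealSheafData.range_subschemeι, Scheme.support_nilradical]
    trivial
  obtain ⟨h1, h2⟩ := length_bc f x'' hx'' z'' hz''
  rw [h1]
  have : AlgebraicGeometry.IsReduced U.nilradical.subscheme := by
    rw [← Scheme.IdealSheafData.vanishingIdeal_top]
    exact Groth.Agent.H75.RedSub.isReduced_vanishingIdeal _
  have : AlgebraicGeometry.IsReduced (pullback σ (ι ≫ str)) :=
    Groth.Agent.H52.FBase.ReducedProd.isReduced_pullback σ (ι ≫ str)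
  have : AlgebraicGeometry.IsReduced (pullback (ι ≫ str) σ) :=
    isReduced_of_isOpenImmersion (pullbackSymmetry (ι ≫ str) σ).hom
  have hfield : IsField ((pullback (ι ≫ str) σ).presheaf.stalk z'') :=
    Groth.Agent.H52.FBase.NoEmb.isField_stalk _ (GenericPoints.mem_of_forall_specializes h2)
  let := hfield.toField
  have hs : IsSimpleModule ((pullback (ι ≫ str) σ).presheaf.stalk z'') ((pullback (ι ≫ str) σ).presheaf.stalk z'') :=
    inferInstance
  erw [Module.length_eq_one_iff.mpr hs, mul_one]

end Groth.Agent.H52.FBase.BCLength
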