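import Groth.Agent.Lib.GeomConn.Components
import Mathlib.FieldTheory.IsSepClosed
import Mathlib.SetTheory.Cardinal.Basic

/-!
Connected and irreducible components of base changes to field extensions.
-/

universe u

open CategoryTheory CategoryTheory.Limits AlgebraicGeometry
open Groth.Agent.Lib.GeomConn

namespace Groth.Agent.H52.FBase.Components

variable (k : Type u) [Field k] (X : Scheme.{u}) [X.Over (Spec (CommRingCat.of k))]

theorem image_connectedComponent_homeo {A B : Type u} [TopologicalSpace A] [TopologicalSpace B]
    (e : A ≃ₜ B) (a : A) : e '' connectedComponent a = connectedComponent (e a) := by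
  refine (e.continuous.image_connectedComponent_subset a).antisymm fun b hb => ?_
  exact ⟨e.symm b, by
    have := e.symm.continuous.image_connectedComponent_subset (e a) ⟨b, hb, rfl⟩
    rwa [e.symm_apply_apply] at this, e.apply_symm_apply b⟩

section bcMap

variable (L K : Type u) [Field L] [Field K] [Algebra k L] [Algebra k K] [Algebra L K]
  [IsScalarTower k L K]

theorem image_connectedComponent_bcMap (z : Curv2.bc k X K) :
    Components.bcMap k X L K '' connectedComponent z =
      connectedComponent (Components.bcMap k X L K z) := by
  let _ : (Curv2.bc k X L).Over (Spec (CommRingCat.of L)) := ⟨Curv2.bcSnd k X L⟩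
  let e := (Components.isPullback_bcMap k X L K).isoPullback
  have he : e.hom ≫ Curv2.bcFst L (Curv2.bc k X L) K = Components.bcMap k X L K :=
    (Components.isPullback_bcMap k X L K).isoPullback_hom_fst
  have h := Components.image_connectedComponent L (Curv2.bc k X L) K (e.hom.homeomorph z)
  have hfun : ∀ w, Curv2.bcFst L (Curv2.bc k X L) K (e.hom.homeomorph w) =
      Components.bcMap k X L K w :=
    fun w => congrArg (fun m : Curv2.bc k X K ⟶ Curv2.bc k X L => m w) he
  refine Eq.trans ?_ (h.trans (congrArg connectedComponent (hfun z)))
  have hc := image_connectedComponent_homeo e.hom.homeomorph z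
  ext w
  constructor
  · rintro ⟨v, hv, rfl⟩
    exact ⟨e.hom.homeomorph v, hc.le ⟨v, hv, rfl⟩, hfun v⟩
  · rintro ⟨v, hv, rfl⟩
    obtain ⟨v', hv', rfl⟩ := hc.ge hv
    exact ⟨v', hv', (hfun v').symm⟩

theorem image_irreducibleComponent_bcMap (T : Set (Curv2.bc k X K))
    (hT : T ∈ irreducibleComponents (Curv2.bc k X K)) :
    Components.bcMap k X L K '' T ∈ irreducibleComponents (Curv2.bc k X L) := by
  let _ : (Curv2.bc k X L).Over (Spec (CommRingCat.of L)) := ⟨Curv2.bcSnd k X L⟩
  let e := (Components.isPullback_bcMap k X L K).isoPullback
  have he : e.hom ≫ Curv2.bcFst L (Curv2.bc k X L) K = Components.bcMap k X L K :=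
    (Components.isPullback_bcMap k X L K).isoPullback_hom_fst
  let eh := e.hom.homeomorph
  have hT' : eh '' T ∈ irreducibleComponents _ :=
    ((congrArg (· ∈ irreducibleComponents _) (eh.image_eq_preimage_symm T).symm).mp
      (preimage_mem_irreducibleComponents hT eh.symm.isOpenEmbedding
        (by rw [eh.symm.surjective.range_eq, Set.inter_univ]; exact hT.1.1)))
  have h := Components.image_irreducibleComponent L (Curv2.bc k X L) K _ hT'
  have hfun : ∀ w, Curv2.bcFst L (Curv2.bc k X L) K (eh w) = Components.bcMap k X L K w :=
    fun w => congrArg (fun m : Curv2.bc k X K ⟶ Curv2.bc k X L => m w) he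
  convert h using 1
  ext w
  constructor
  · rintro ⟨v, hv, rfl⟩
    exact ⟨eh v, ⟨v, hv, rfl⟩, hfun v⟩
  · rintro ⟨_, ⟨v, hv, rfl⟩, rfl⟩
    exact ⟨v, hv, (hfun v).symm⟩

theorem exists_irreducibleComponent_bcMap (T : Set (Curv2.bc k X L))
    (hT : T ∈ irreducibleComponents (Curv2.bc k X L)) :
    ∃ T' ∈ irreducibleComponents (Curv2.bc k X K), Components.bcMap k X L K '' T' = T := by
  obtain ⟨η, hη⟩ := QuasiSober.sober hT.1 (isClosed_of_mem_irreducibleComponents T hT)
  obtain ⟨w, rfl⟩ := Components.bcMap_surjective k X L K η
  have hw := irreducibleComponent_mem_irreducibleComponents w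
  refine ⟨irreducibleComponent w, hw, ?_⟩
  have h := image_irreducibleComponent_bcMap k X L K _ hw
  have hle : T ⊆ Components.bcMap k X L K '' irreducibleComponent w := by
    rw [← hη.def]
    exact closure_minimal (Set.singleton_subset_iff.mpr ⟨w, mem_irreducibleComponent, rfl⟩)
      (isClosed_of_mem_irreducibleComponents _ h)
  exact (hT.2 h.1 hle).antisymm hle

/-- Connected components of `X_K` map onto those of `X_L`. -/
noncomputable def componentsMap :
    _root_.ConnectedComponents (Curv2.bc k X K) → _root_.ConnectedComponents (Curv2.bc k X L) :=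
  (Components.bcMap k X L K).continuous.connectedComponentsMap

theorem componentsMap_surjective : Function.Surjective (componentsMap k X L K) := by
  intro c
  obtain ⟨x, rfl⟩ := _root_.ConnectedComponents.surjective_coe c
  obtain ⟨z, rfl⟩ := Components.bcMap_surjective k X L K x
  exact ⟨_root_.ConnectedComponents.mk z, rfl⟩

theorem isConnected_preimage_bcMap [IsSepClosed L] {S : Set (Curv2.bc k X L)}
    (hS : _root_.IsConnected S) (hS' : IsClosed S) :
    _root_.IsConnected (Components.bcMap k X L K ⁻¹' S) :=
  have := Components.bcMap_geometricallyConnected k X L K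
  (Components.bcMap k X L K).isConnected_preimage (Components.bcMap_isOpenMap k X L K) hS hS'

theorem componentsMap_bijective [IsSepClosed L] : Function.Bijective (componentsMap k X L K) := by
  refine ⟨fun a b h => ?_, componentsMap_surjective k X L K⟩
  obtain ⟨z, rfl⟩ := _root_.ConnectedComponents.surjective_coe a
  obtain ⟨w, rfl⟩ := _root_.ConnectedComponents.surjective_coe b
  have h' : connectedComponent (Components.bcMap k X L K z) =
      connectedComponent (Components.bcMap k X L K w) := _root_.ConnectedComponents.coe_eq_coe.mp h
  refine _root_.ConnectedComponents.coe_eq_coe'.mpr ?_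
  exact (isConnected_preimage_bcMap k X L K (isConnected_connectedComponent (x := Components.bcMap k X L K w))
    isClosed_connectedComponent).isPreconnected.subset_connectedComponent
      (show w ∈ _ from mem_connectedComponent) (by rw [Set.mem_preimage, ← h']; exact mem_connectedComponent)

theorem isPreirreducible_fibre_bcMap [IsSepClosed L] (x : Curv2.bc k X L) :
    IsPreirreducible (Components.bcMap k X L K ⁻¹' {x}) :=
  have := Components.bcMap_geometricallyIrreducible k X L K
  ((Components.bcMap k X L K).isIrreducible_preimage (Components.bcMap_isOpenMap k X L K)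
    isIrreducible_singleton).2

theorem preimage_mem_irreducibleComponents_bcMap [IsSepClosed L] {T : Set (Curv2.bc k X L)}
    (hT : T ∈ irreducibleComponents (Curv2.bc k X L)) :
    Components.bcMap k X L K ⁻¹' T ∈ irreducibleComponents (Curv2.bc k X K) :=
  preimage_mem_irreducibleComponents_of_isPreirreducible_fiber hT
    (Components.bcMap k X L K).continuous (Components.bcMap_isOpenMap k X L K)
    (isPreirreducible_fibre_bcMap k X L K)
    (by rw [(Components.bcMap_surjective k X L K).range_eq, Set.inter_univ]; exact hT.1.1)

end bcMap

variable (K Ω : Type u) [Field K] [Algebra k K] [Field Ω] [Algebra k Ω] [IsAlgClosed Ω]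

theorem mk_connectedComponents_le :
    Cardinal.mk (_root_.ConnectedComponents (Curv2.bc k X K)) ≤
      Cardinal.mk (_root_.ConnectedComponents (Curv2.bc k X Ω)) := by
  let L := SeparableClosure k
  let A := AlgebraicClosure K
  let i : L →ₐ[k] A := IsSepClosed.lift
  let j : L →ₐ[k] Ω := IsSepClosed.lift
  let _ := i.toRingHom.toAlgebra
  let _ := j.toRingHom.toAlgebra
  have : IsScalarTower k L A := .of_algebraMap_eq fun a => (i.commutes a).symm
  have : IsScalarTower k L Ω := .of_algebraMap_eq fun a => (j.commutes a).symm
  calc Cardinal.mk (_root_.ConnectedComponents (Curv2.bc k X K))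
      ≤ Cardinal.mk (_root_.ConnectedComponents (Curv2.bc k X A)) :=
        Cardinal.mk_le_of_surjective (componentsMap_surjective k X K A)
    _ = Cardinal.mk (_root_.ConnectedComponents (Curv2.bc k X L)) :=
        Cardinal.mk_congr (Equiv.ofBijective _ (componentsMap_bijective k X L A))
    _ = _ := (Cardinal.mk_congr (Equiv.ofBijective _ (componentsMap_bijective k X L Ω))).symm

theorem mk_irreducibleComponents_le :
    Cardinal.mk (irreducibleComponents (Curv2.bc k X K)) ≤
      Cardinal.mk (irreducibleComponents (Curv2.bc k X Ω)) := by
  let L := SeparableClosure k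
  let A := AlgebraicClosure K
  let i : L →ₐ[k] A := IsSepClosed.lift
  let j : L →ₐ[k] Ω := IsSepClosed.lift
  let _ := i.toRingHom.toAlgebra
  let _ := j.toRingHom.toAlgebra
  have : IsScalarTower k L A := .of_algebraMap_eq fun a => (i.commutes a).symm
  have : IsScalarTower k L Ω := .of_algebraMap_eq fun a => (j.commutes a).symm
  calc Cardinal.mk (irreducibleComponents (Curv2.bc k X K))
      ≤ Cardinal.mk (irreducibleComponents (Curv2.bc k X A)) :=
        Cardinal.mk_le_of_surjective (f := fun T =>
          (⟨_, image_irreducibleComponent_bcMap k X K A T.1 T.2⟩ : irreducibleComponents (Curv2.bc k X K)))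
          fun ⟨T, hT⟩ => by
            obtain ⟨T', hT', he⟩ := exists_irreducibleComponent_bcMap k X K A T hT
            exact ⟨⟨T', hT'⟩, Subtype.ext he⟩
    _ = Cardinal.mk (irreducibleComponents (Curv2.bc k X L)) :=
        (Cardinal.mk_congr (irreducibleComponentsEquivOfIsPreirreducibleFiber _
          (Components.bcMap k X L A).continuous (Components.bcMap_isOpenMap k X L A)
          (isPreirreducible_fibre_bcMap k X L A) (Components.bcMap_surjective k X L A)).toEquiv).symm
    _ = _ := Cardinal.mk_congr (irreducibleComponentsEquivOfIsPreirreducibleFiber _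
          (Components.bcMap k X L Ω).continuous (Components.bcMap_isOpenMap k X L Ω)
          (isPreirreducible_fibre_bcMap k X L Ω) (Components.bcMap_surjective k X L Ω)).toEquiv

end Groth.Agent.H52.FBase.Components
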