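import Groth.Agent.H52.FBase.Components
import Groth.Agent.H52.FBase.PrimaryGeom
import Groth.Agent.Lib.GeomConn.GenericFibre
import Mathlib.FieldTheory.SeparableClosure
import Mathlib.RingTheory.LocalRing.ResidueField.Ideal

/-!
Number of geometric components above a point whose residue field has finite separable closure of `k`.
-/

universe u

open CategoryTheory CategoryTheory.Limits AlgebraicGeometry TensorProduct
open Groth.Agent.Lib.GeomConn

namespace Groth.Agent.H52.FBase.ComponentsCount

theorem exists_cover_spec_tensor {k k' κ Ω : Type u} [Field k] [Field k'] [Field κ] [Field Ω]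
    [IsAlgClosed Ω] [Algebra k k'] [Algebra k κ] [Algebra k' κ] [IsScalarTower k k' κ]
    [Algebra k Ω] [Algebra.IsAlgebraic k k'] (hk : separableClosure k' κ = ⊥) :
    ∃ S : (k' →ₐ[k] Ω) → Set (PrimeSpectrum (κ ⊗[k] Ω)),
      (∀ ι, IsPreirreducible (S ι)) ∧ ∀ q, ∃ ι, q ∈ S ι := by
  let piece : (k' →ₐ[k] Ω) → Set (PrimeSpectrum (κ ⊗[k] Ω)) := fun ι =>
    let _ : Algebra k' Ω := ι.toRingHom.toAlgebra
    have : IsScalarTower k k' Ω := .of_algebraMap_eq fun a => (ι.commutes a).symm
    Set.range (PrimeSpectrum.comap (Algebra.TensorProduct.lift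
      ((Algebra.TensorProduct.includeLeft : κ →ₐ[k'] κ ⊗[k'] Ω).restrictScalars k)
      ((Algebra.TensorProduct.includeRight : Ω →ₐ[k'] κ ⊗[k'] Ω).restrictScalars k)
      fun _ _ => Commute.all _ _).toRingHom)
  refine ⟨piece, fun ι => ?_, fun q => ?_⟩
  · let _ : Algebra k' Ω := ι.toRingHom.toAlgebra
    have : IsScalarTower k k' Ω := .of_algebraMap_eq fun a => (ι.commutes a).symm
    have := PrimaryGeom.irreducibleSpace_bc_spec (k := k') κ hk Ω
    have hirr : IrreducibleSpace (PrimeSpectrum (κ ⊗[k'] Ω)) :=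
      (pullbackSpecIso k' κ Ω).hom.homeomorph.irreducibleSpace_iff.mp this
    simp only [piece, ← Set.image_univ]
    exact (IrreducibleSpace.isIrreducible_univ _).2.image _ (PrimeSpectrum.continuous_comap _).continuousOn
  · let A := q.asIdeal.ResidueField
    let α : κ →ₐ[k] A := (IsScalarTower.toAlgHom k (κ ⊗[k] Ω) A).comp Algebra.TensorProduct.includeLeft
    let β : Ω →ₐ[k] A := (IsScalarTower.toAlgHom k (κ ⊗[k] Ω) A).comp Algebra.TensorProduct.includeRight
    have hrange : ∀ a : k', α (algebraMap k' κ a) ∈ β.fieldRange := by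
      intro a
      let _ : Algebra Ω A := β.toRingHom.toAlgebra
      have : IsScalarTower k Ω A := .of_algebraMap_eq fun b => (β.commutes b).symm
      have hint : IsIntegral Ω (α (algebraMap k' κ a)) :=
        (((Algebra.IsIntegral.isIntegral (R := k) a).map (IsScalarTower.toAlgHom k k' κ)).map α).tower_top
      obtain ⟨b, hb⟩ := minpoly.mem_range_of_degree_eq_one Ω _
        (IsAlgClosed.degree_eq_one_of_irreducible Ω (minpoly.irreducible hint))
      exact ⟨b, hb⟩
    let ι : k' →ₐ[k] Ω :=
      (AlgEquiv.ofInjectiveField β).symm.toAlgHom.comp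
        ((α.comp (IsScalarTower.toAlgHom k k' κ)).codRestrict β.range fun a => hrange a)
    have hι : ∀ a, β (ι a) = α (algebraMap k' κ a) := fun a =>
      congrArg Subtype.val ((AlgEquiv.ofInjectiveField β).apply_symm_apply _)
    refine ⟨ι, ?_⟩
    let _ : Algebra k' Ω := ι.toRingHom.toAlgebra
    have : IsScalarTower k k' Ω := .of_algebraMap_eq fun a => (ι.commutes a).symm
    have hA : ∀ a : k', algebraMap k' A a = α (algebraMap k' κ a) := fun a => by
      rw [IsScalarTower.algebraMap_apply k' (κ ⊗[k] Ω) A,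
        IsScalarTower.algebraMap_apply k' κ (κ ⊗[k] Ω)]
      rfl
    let α' : κ →ₐ[k'] A := { toRingHom := α.toRingHom, commutes' := fun a => (hA a).symm }
    let β' : Ω →ₐ[k'] A :=
      { toRingHom := β.toRingHom, commutes' := fun a => (hι a).trans (hA a).symm }
    let Φ : κ ⊗[k'] Ω →ₐ[k'] A := Algebra.TensorProduct.lift α' β' fun _ _ => Commute.all _ _
    refine ⟨⟨RingHom.ker Φ.toRingHom, RingHom.ker_isPrime _⟩, PrimeSpectrum.ext ?_⟩
    have hcomp : Φ.toRingHom.comp (Algebra.TensorProduct.lift
        ((Algebra.TensorProduct.includeLeft : κ →ₐ[k'] κ ⊗[k'] Ω).restrictScalars k)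
        ((Algebra.TensorProduct.includeRight : Ω →ₐ[k'] κ ⊗[k'] Ω).restrictScalars k)
        fun _ _ => Commute.all _ _).toRingHom = algebraMap (κ ⊗[k] Ω) A := by
      ext r <;> simp [Φ] <;> rfl
    show Ideal.comap _ (RingHom.ker _) = q.asIdeal
    rw [RingHom.comap_ker, hcomp]
    exact Ideal.ker_algebraMap_residueField q.asIdeal

attribute [local instance] Curv2.resAlgebra

theorem exists_embeddings_cover {k : Type u} [Field k] (X : Scheme.{u})
    [X.Over (Spec (CommRingCat.of k))] (x : X) (Ω : Type u) [Field Ω] [Algebra k Ω] [IsAlgClosed Ω] :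
    ∃ c : (separableClosure k (X.residueField x) →ₐ[k] Ω) →
        _root_.ConnectedComponents (Curv2.bc k X Ω),
      ∀ w, Curv2.bcFst k X Ω w ∈ connectedComponent x → ∃ ι, c ι = _root_.ConnectedComponents.mk w := by
  let κ := X.residueField x
  obtain ⟨S, hS, hcov⟩ := exists_cover_spec_tensor (k := k) (k' := separableClosure k κ) (κ := κ)
    (Ω := Ω) (separableClosure.separableClosure_eq_bot k κ)
  let m : Spec (CommRingCat.of (κ ⊗[k] Ω)) ⟶ Curv2.bc k X Ω :=
    (pullbackSpecIso k κ Ω).inv ≫ GenericFibre.fibreMap k X Ω x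
  have hne : Nonempty ↥(Curv2.bc k X Ω) := ⟨((Curv2.bcFst k X Ω).surjective x).choose⟩
  refine ⟨fun ι => _root_.ConnectedComponents.mk
    (Classical.epsilon fun w => w ∈ m '' S ι), fun w hw => ?_⟩
  have h1 : x ∈ Curv2.bcFst k X Ω '' connectedComponent w := by
    rw [Components.image_connectedComponent, ← connectedComponent_eq hw]
    exact mem_connectedComponent
  obtain ⟨w', hw', hw'x⟩ := h1
  obtain ⟨p, hp⟩ : w' ∈ Set.range (GenericFibre.fibreMap k X Ω x) := by
    rw [GenericFibre.range_fibreMap]; exact hw'x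
  obtain ⟨q, rfl⟩ := (pullbackSpecIso k κ Ω).inv.surjective p
  obtain ⟨ι, hι⟩ := hcov q
  refine ⟨ι, ?_⟩
  have hmem : w' ∈ m '' S ι := ⟨q, hι, hp⟩
  have hpre : _root_.IsPreconnected (m '' S ι) :=
    ((hS ι).image _ m.continuous.continuousOn).isPreconnected
  have he := Classical.epsilon_spec (p := fun v => v ∈ m '' S ι) ⟨w', hmem⟩
  refine _root_.ConnectedComponents.coe_eq_coe'.mpr ?_
  rw [connectedComponent_eq hw']
  exact hpre.subset_connectedComponent hmem he

theorem finite_and_card_le {k : Type u} [Field k] (X : Scheme.{u})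
    [X.Over (Spec (CommRingCat.of k))] [ConnectedSpace X] (x : X)
    [FiniteDimensional k (separableClosure k (X.residueField x))]
    (Ω : Type u) [Field Ω] [Algebra k Ω] [IsAlgClosed Ω] :
    Finite (_root_.ConnectedComponents (Curv2.bc k X Ω)) ∧
      Nat.card (_root_.ConnectedComponents (Curv2.bc k X Ω)) ≤
        Module.finrank k (separableClosure k (X.residueField x)) := by
  obtain ⟨c, hc⟩ := exists_embeddings_cover (k := k) X x Ω
  have hs : Function.Surjective c := fun a => by
    obtain ⟨w, rfl⟩ := _root_.ConnectedComponents.surjective_coe a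
    exact hc w (by rw [PreconnectedSpace.connectedComponent_eq_univ]; trivial)
  refine ⟨Finite.of_surjective c hs, (Nat.card_le_card_of_surjective c hs).trans ?_⟩
  exact le_of_eq (Nat.card_eq_fintype_card.trans (AlgHom.card k (separableClosure k (X.residueField x)) Ω))

end Groth.Agent.H52.FBase.ComponentsCount
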