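import Groth.Agent.H52.FBase.ComponentsSep
import Groth.Agent.Lib.GeomConn.GaloisComponents

/-!
A finite separable extension over which all irreducible components become geometrically irreducible.
-/

universe u

open CategoryTheory CategoryTheory.Limits AlgebraicGeometry TensorProduct
open Groth.Agent.Lib.GeomConn

namespace Groth.Agent.H52.FBase.ComponentsIrr

variable (k : Type u) [Field k] (X : Scheme.{u}) [X.Over (Spec (CommRingCat.of k))]

attribute [local instance] Curv2.resAlgebra

theorem eq_of_isGenericPoint {T' T : Set X} {w : X} (hw : IsGenericPoint w T)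
    (hT : T ∈ irreducibleComponents X) (hT' : T' ∈ irreducibleComponents X) (h : w ∈ T') : T' = T :=
  have hsub : T ⊆ T' := by
    rw [← hw.def]
    exact closure_minimal (Set.singleton_subset_iff.mpr h) (isClosed_of_mem_irreducibleComponents T' hT')
  (hT.2 hT'.1 hsub).antisymm hsub

theorem exists_irreducible_pieces (x : X) (Ω : Type u) [Field Ω] [Algebra k Ω] [IsAlgClosed Ω] :
    ∃ S : (separableClosure k (X.residueField x) →ₐ[k] Ω) → Set (Curv2.bc k X Ω),
      (∀ ι, IsPreirreducible (S ι)) ∧ ∀ w, Curv2.bcFst k X Ω w = x → ∃ ι, w ∈ S ι := by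
  let κ := X.residueField x
  obtain ⟨S, hS, hcov⟩ := ComponentsCount.exists_cover_spec_tensor (k := k)
    (k' := separableClosure k κ) (κ := κ) (Ω := Ω) (separableClosure.separableClosure_eq_bot k κ)
  let m : Spec (CommRingCat.of (κ ⊗[k] Ω)) ⟶ Curv2.bc k X Ω :=
    (pullbackSpecIso k κ Ω).inv ≫ GenericFibre.fibreMap k X Ω x
  refine ⟨fun ι => m '' S ι, fun ι => (hS ι).image _ m.continuous.continuousOn, fun w hw => ?_⟩
  obtain ⟨p, hp⟩ : w ∈ Set.range (GenericFibre.fibreMap k X Ω x) := by
    rw [GenericFibre.range_fibreMap]; exact hw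
  obtain ⟨q, rfl⟩ := (pullbackSpecIso k κ Ω).inv.surjective p
  obtain ⟨ι, hι⟩ := hcov q
  exact ⟨ι, q, hι, hp⟩

theorem finite_irreducibleComponents_alg (Ω : Type u) [Field Ω] [Algebra k Ω] [IsAlgClosed Ω]
    [Finite ↥(irreducibleComponents X)]
    (hx : ∀ (Z : Set X) (hZ : Z ∈ irreducibleComponents X),
      FiniteDimensional k (separableClosure k (X.residueField hZ.1.genericPoint))) :
    Finite ↥(irreducibleComponents (Curv2.bc k X Ω)) := by
  choose S hS hcov using fun Z : irreducibleComponents X =>
    exists_irreducible_pieces k X Z.2.1.genericPoint Ω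
  have : ∀ Z : irreducibleComponents X,
      Finite (separableClosure k (X.residueField Z.2.1.genericPoint) →ₐ[k] Ω) := fun Z => by
    have := hx Z.1 Z.2
    infer_instance
  let T : (Σ Z : irreducibleComponents X,
      (separableClosure k (X.residueField Z.2.1.genericPoint) →ₐ[k] Ω)) → Set (Curv2.bc k X Ω) :=
    fun p => Classical.epsilon fun T => T ∈ irreducibleComponents (Curv2.bc k X Ω) ∧ S p.1 p.2 ⊆ T
  refine Set.finite_coe_iff.mpr ((Set.finite_range T).subset fun W hW => ?_)
  obtain ⟨w, hw⟩ := QuasiSober.sober hW.1 (isClosed_of_mem_irreducibleComponents W hW)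
  have hZ := Components.image_irreducibleComponent k X Ω W hW
  have hwη : Curv2.bcFst k X Ω w = hZ.1.genericPoint :=
    (hw.image (Curv2.bcFst k X Ω).continuous).eq (by
      have := hZ.1.isGenericPoint_genericPoint (isClosed_of_mem_irreducibleComponents _ hZ)
      rwa [(isClosed_of_mem_irreducibleComponents _ hZ).closure_eq])
  obtain ⟨ι, hι⟩ := hcov ⟨_, hZ⟩ w hwη
  refine ⟨⟨⟨_, hZ⟩, ι⟩, ?_⟩
  have hex := exists_mem_irreducibleComponents_subset_of_isIrreducible (S ⟨_, hZ⟩ ι)
    ⟨⟨w, hι⟩, hS _ _⟩
  obtain ⟨h1, h2⟩ := Classical.epsilon_spec (p := fun T => T ∈ irreducibleComponents (Curv2.bc k X Ω) ∧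
    S ⟨_, hZ⟩ ι ⊆ T) hex
  exact eq_of_isGenericPoint (Curv2.bc k X Ω) hw hW h1 (h2 hι)

variable {k X} in
theorem galAct_image_mem (L : Type u) [Field L] [Algebra k L] (σ : L ≃ₐ[k] L)
    (T : Set (Curv2.bc k X L)) (hT : T ∈ irreducibleComponents (Curv2.bc k X L)) :
    Curv2.galAct k X L σ '' T ∈ irreducibleComponents (Curv2.bc k X L) := by
  let eh := GaloisComponents.galHomeo k X L σ
  show eh '' T ∈ _
  rw [eh.image_eq_preimage_symm]
  exact preimage_mem_irreducibleComponents hT eh.symm.isOpenEmbedding
    (by rw [eh.symm.surjective.range_eq, Set.inter_univ]; exact hT.1.1)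

theorem exists_finite_separable [Finite ↥(irreducibleComponents X)]
    (hx : ∀ (Z : Set X) (hZ : Z ∈ irreducibleComponents X),
      FiniteDimensional k (separableClosure k (X.residueField hZ.1.genericPoint))) :
    ∃ E : IntermediateField k (SeparableClosure k), FiniteDimensional k E ∧
      ∀ T' ∈ irreducibleComponents (Curv2.bc k X E),
        IsIrreducible (Components.bcMap k X E (SeparableClosure k) ⁻¹' T') := by
  let L := SeparableClosure k
  let Ω := AlgebraicClosure k
  have := finite_irreducibleComponents_alg k X Ω hx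
  have : Finite ↥(irreducibleComponents (Curv2.bc k X L)) :=
    Finite.of_surjective (α := ↥(irreducibleComponents (Curv2.bc k X Ω)))
      (fun T => ⟨_, H52.FBase.Components.image_irreducibleComponent_bcMap k X L Ω T.1 T.2⟩)
      fun ⟨T, hT⟩ => by
        obtain ⟨T', hT', he⟩ := H52.FBase.Components.exists_irreducibleComponent_bcMap k X L Ω T hT
        exact ⟨⟨T', hT'⟩, Subtype.ext he⟩
  choose w hw using fun T : irreducibleComponents (Curv2.bc k X L) =>
    QuasiSober.sober T.2.1 (isClosed_of_mem_irreducibleComponents T.1 T.2)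
  let U : irreducibleComponents (Curv2.bc k X L) → Set (Curv2.bc k X L) := fun T =>
    (⋃ T' ∈ {T' : irreducibleComponents (Curv2.bc k X L) | T' ≠ T}, (T' : Set (Curv2.bc k X L)))ᶜ
  have hUo : ∀ T, IsOpen (U T) := fun T =>
    ((Set.toFinite _).isClosed_biUnion fun T' _ =>
      isClosed_of_mem_irreducibleComponents T'.1 T'.2).isOpen_compl
  have hwU : ∀ T, w T ∈ U T := fun T h => by
    obtain ⟨T', hne, hmem⟩ := Set.mem_iUnion₂.mp h
    exact hne (Subtype.ext (eq_of_isGenericPoint _ (hw T) T.2 T'.2 hmem))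
  choose V hV hwV hVU N hN using fun T => (Galois.isOrbitMap k X L).exists_basic (w T) (U T) (hUo T) (hwU T)
  choose E hE hEN using fun T => Geometric.exists_finiteDimensional_le k L (N T)
  refine ⟨⨆ T, E T, IntermediateField.finiteDimensional_iSup_of_finite, fun T' hT' => ?_⟩
  obtain ⟨T, hT, hTT'⟩ := H52.FBase.Components.exists_irreducibleComponent_bcMap k X
    (⨆ T, E T : IntermediateField k L) L T' hT'
  have hinv : ∀ σ : L ≃ₐ[k] L, (∀ c ∈ ⨆ T, E T, σ c = c) → Curv2.galAct k X L σ '' T = T := by
    intro σ hσ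
    have hg : σ⁻¹ ∈ N ⟨T, hT⟩ := inv_mem (hEN _ σ fun a ha => hσ a (le_iSup E _ ha))
    have h1 := hVU _ (hN _ _ hg _ (hwV ⟨T, hT⟩))
    rw [Galois.smul_def, inv_inv] at h1
    by_contra hne
    refine h1 (Set.mem_iUnion₂.mpr ⟨⟨_, galAct_image_mem L σ T hT⟩,
      fun he => hne (congrArg Subtype.val he), ?_⟩)
    exact ⟨w ⟨T, hT⟩, (hw ⟨T, hT⟩).mem, rfl⟩
  suffices Components.bcMap k X (⨆ T, E T : IntermediateField k L) L ⁻¹' T' = T by
    rw [this]; exact hT.1
  rw [← hTT']
  refine Set.Subset.antisymm (fun y hy => ?_) (Set.subset_preimage_image _ _)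
  obtain ⟨t, ht, hty⟩ := hy
  obtain ⟨σ, hσ, rfl⟩ := Geometric.exists_galAct_fixing_eq k X L _ t y hty
  rw [← hinv σ hσ]
  exact ⟨t, ht, rfl⟩

theorem isIrreducible_preimage_bc (E L : Type u) [Field E] [Field L] [Algebra k E] [Algebra k L]
    [Algebra E L] [IsScalarTower k E L] [Algebra.IsSeparable E L] [IsSepClosed L]
    {S : Set (Curv2.bc k X E)} (hS : IsIrreducible (Components.bcMap k X E L ⁻¹' S))
    (K : Type u) [Field K] [Algebra E K] :
    IsIrreducible (pullback.fst (Curv2.bcSnd k X E)
      (Spec.map (CommRingCat.ofHom (algebraMap E K))) ⁻¹' S) := by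
  let _ : Algebra k K := ((algebraMap E K).comp (algebraMap k E)).toAlgebra
  have : IsScalarTower k E K := .of_algebraMap_eq fun _ => rfl
  let A := AlgebraicClosure K
  let j : L →ₐ[E] A := IsSepClosed.lift
  let _ := j.toRingHom.toAlgebra
  have : IsScalarTower E L A := .of_algebraMap_eq fun a => (j.commutes a).symm
  have : IsScalarTower k L A := .of_algebraMap_eq fun a => by
    rw [IsScalarTower.algebraMap_apply k E L, ← IsScalarTower.algebraMap_apply E L A,
      ← IsScalarTower.algebraMap_apply k E A]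
  have := Components.bcMap_geometricallyIrreducible k X L A
  have h1 := (Components.bcMap k X L A).isIrreducible_preimage (Components.bcMap_isOpenMap k X L A) hS
  have hcomp : Components.bcMap k X L A ≫ Components.bcMap k X E L = Components.bcMap k X E A := by
    refine pullback.hom_ext ?_ ?_
    · simp only [Category.assoc, Components.bcMap_fst]
    · simp only [Category.assoc, Components.bcMap_snd, Components.bcMap_snd_assoc]
      rw [← Spec.map_comp, ← CommRingCat.ofHom_comp, ← IsScalarTower.algebraMap_eq]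
  have hcompK : Components.bcMap k X K A ≫ Components.bcMap k X E K = Components.bcMap k X E A := by
    refine pullback.hom_ext ?_ ?_
    · simp only [Category.assoc, Components.bcMap_fst]
    · simp only [Category.assoc, Components.bcMap_snd, Components.bcMap_snd_assoc]
      rw [← Spec.map_comp, ← CommRingCat.ofHom_comp, ← IsScalarTower.algebraMap_eq]
  let e := (Components.isPullback_bcMap k X E K).isoPullback
  have he : e.hom ≫ pullback.fst (Curv2.bcSnd k X E) (Spec.map (CommRingCat.ofHom (algebraMap E K))) =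
      Components.bcMap k X E K := (Components.isPullback_bcMap k X E K).isoPullback_hom_fst
  let m := Components.bcMap k X K A ≫ e.hom
  convert h1.image m m.continuous.continuousOn using 1
  ext z
  constructor
  · intro hz
    obtain ⟨v, rfl⟩ := e.hom.surjective z
    obtain ⟨a, rfl⟩ := Components.bcMap_surjective k X K A v
    refine ⟨a, ?_, rfl⟩
    show (Components.bcMap k X L A ≫ Components.bcMap k X E L) a ∈ S
    rw [hcomp, ← hcompK, ← he]
    exact hz
  · rintro ⟨a, ha, rfl⟩
    have ha' : (Components.bcMap k X L A ≫ Components.bcMap k X E L) a ∈ S := ha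
    rw [hcomp, ← hcompK, ← he] at ha'
    exact ha'

end Groth.Agent.H52.FBase.ComponentsIrr
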