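import Groth.Agent.H52.FBase.ComponentsCount
import Groth.Agent.Lib.GeomConn.Geometric
import Groth.Prelude.Def_FDesc

/-!
A finite separable extension over which all connected components become geometrically connected.
-/

universe u

open CategoryTheory CategoryTheory.Limits AlgebraicGeometry
open Groth.Agent.Lib.GeomConn

namespace Groth.Agent.H52.FBase.ComponentsSep

theorem isOpen_connectedComponent_of_finite {T : Type u} [TopologicalSpace T]
    [Finite (_root_.ConnectedComponents T)] (t : T) : IsOpen (connectedComponent t) := by
  rw [← connectedComponents_preimage_singleton]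
  exact (isOpen_discrete _).preimage _root_.ConnectedComponents.continuous_coe

variable (k : Type u) [Field k] (X : Scheme.{u}) [X.Over (Spec (CommRingCat.of k))]

attribute [local instance] Curv2.resAlgebra

theorem finite_connectedComponents_alg (Ω : Type u) [Field Ω] [Algebra k Ω] [IsAlgClosed Ω]
    [Finite (_root_.ConnectedComponents X)]
    (hx : ∀ c : _root_.ConnectedComponents X, ∃ x : X, _root_.ConnectedComponents.mk x = c ∧
      FiniteDimensional k (separableClosure k (X.residueField x))) :
    Finite (_root_.ConnectedComponents (Curv2.bc k X Ω)) := by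
  choose x hxc hfin using hx
  choose F hF using fun c => ComponentsCount.exists_embeddings_cover (k := k) X (x c) Ω
  have : ∀ c, Finite (separableClosure k (X.residueField (x c)) →ₐ[k] Ω) := fun c => by
    have := hfin c
    infer_instance
  refine Finite.of_surjective (fun p : Σ c, (separableClosure k (X.residueField (x c)) →ₐ[k] Ω) =>
    F p.1 p.2) fun a => ?_
  obtain ⟨w, rfl⟩ := _root_.ConnectedComponents.surjective_coe a
  obtain ⟨ι, hι⟩ := hF (_root_.ConnectedComponents.mk (Curv2.bcFst k X Ω w)) w
    (_root_.ConnectedComponents.coe_eq_coe'.mp (hxc _).symm)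
  exact ⟨⟨_, ι⟩, hι⟩

theorem isConnected_preimage_of_fixed (L : Type u) [Field L] [Algebra k L] [Normal k L]
    (E : IntermediateField k L)
    (hfix : ∀ σ : L ≃ₐ[k] L, (∀ c ∈ E, σ c = c) → ∀ z, Curv2.galAct k X L σ z ∈ connectedComponent z)
    (x' : Curv2.bc k X E) :
    _root_.IsConnected (Components.bcMap k X E L ⁻¹' connectedComponent x') := by
  obtain ⟨z, rfl⟩ := Components.bcMap_surjective k X E L x'
  suffices Components.bcMap k X E L ⁻¹' connectedComponent (Components.bcMap k X E L z) =
      connectedComponent z by
    rw [this]; exact isConnected_connectedComponent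
  refine Set.Subset.antisymm (fun w hw => ?_) (fun w hw => ?_)
  · have : Components.bcMap k X E L z ∈ Components.bcMap k X E L '' connectedComponent w := by
      rw [H52.FBase.Components.image_connectedComponent_bcMap,
        ← connectedComponent_eq (Set.mem_preimage.mp hw)]
      exact mem_connectedComponent
    obtain ⟨w', hw', he⟩ := this
    obtain ⟨σ, hσ, rfl⟩ := Geometric.exists_galAct_fixing_eq k X L E z w' he.symm
    rw [connectedComponent_eq (hfix σ hσ z), ← connectedComponent_eq hw']
    exact mem_connectedComponent
  · exact (Components.bcMap k X E L).continuous.image_connectedComponent_subset z ⟨w, hw, rfl⟩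

theorem exists_finite_separable [Finite (_root_.ConnectedComponents X)]
    (hx : ∀ c : _root_.ConnectedComponents X, ∃ x : X, _root_.ConnectedComponents.mk x = c ∧
      FiniteDimensional k (separableClosure k (X.residueField x))) :
    ∃ E : IntermediateField k (SeparableClosure k), FiniteDimensional k E ∧
      ∀ x' : Curv2.bc k X E,
        _root_.IsConnected (Components.bcMap k X E (SeparableClosure k) ⁻¹' connectedComponent x') := by
  let L := SeparableClosure k
  let Ω := AlgebraicClosure k
  have := finite_connectedComponents_alg k X Ω hx
  have : Finite (_root_.ConnectedComponents (Curv2.bc k X L)) :=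
    Finite.of_surjective _ (H52.FBase.Components.componentsMap_surjective k X L Ω)
  choose r hr using _root_.ConnectedComponents.surjective_coe (α := Curv2.bc k X L)
  have hπ := Galois.isOrbitMap k X L
  choose N hN using fun c => hπ.exists_openSubgroup_fiber
    (isClosed_connectedComponent (x := r c)) (isOpen_connectedComponent_of_finite (r c))
    subset_rfl (Curv2.bcFst k X L (r c))
  choose E hE hEN using fun c => Geometric.exists_finiteDimensional_le k L (N c)
  refine ⟨⨆ c, E c, IntermediateField.finiteDimensional_iSup_of_finite,
    isConnected_preimage_of_fixed k X L _ fun σ hσ z => ?_⟩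
  let c := _root_.ConnectedComponents.mk z
  have hzc : connectedComponent (r c) = connectedComponent z :=
    _root_.ConnectedComponents.coe_eq_coe.mp (hr c)
  have hg : σ ∈ N c := hEN c σ fun a ha => hσ a (le_iSup E c ha)
  have hinv : σ⁻¹ ∈ N c := inv_mem hg
  have h1 := hN c _ hinv (r c) mem_connectedComponent rfl
  rw [Galois.smul_def, inv_inv] at h1
  have h2 : Curv2.galAct k X L σ z ∈ connectedComponent (Curv2.galAct k X L σ (r c)) :=
    (Curv2.galAct k X L σ).continuous.image_connectedComponent_subset (r c)
      ⟨z, by rw [hzc]; exact mem_connectedComponent, rfl⟩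
  rw [← connectedComponent_eq h1, hzc] at h2
  exact h2

theorem isConnected_preimage_bc (E L : Type u) [Field E] [Field L] [Algebra k E] [Algebra k L]
    [Algebra E L] [IsScalarTower k E L] [Algebra.IsSeparable E L] [IsSepClosed L] {S : Set (Curv2.bc k X E)}
    (hS' : IsClosed S) (hS : _root_.IsConnected (Components.bcMap k X E L ⁻¹' S))
    (K : Type u) [Field K] [Algebra E K] :
    _root_.IsConnected (pullback.fst (Curv2.bcSnd k X E)
      (Spec.map (CommRingCat.ofHom (algebraMap E K))) ⁻¹' S) := by
  let _ : Algebra k K := ((algebraMap E K).comp (algebraMap k E)).toAlgebra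
  have : IsScalarTower k E K := .of_algebraMap_eq fun _ => rfl
  let A := AlgebraicClosure K
  let j : L →ₐ[E] A := IsSepClosed.lift
  let _ := j.toRingHom.toAlgebra
  have : IsScalarTower E L A := .of_algebraMap_eq fun a => (j.commutes a).symm
  have : IsScalarTower k L A := .of_algebraMap_eq fun a => by
    rw [IsScalarTower.algebraMap_apply k E L, ← IsScalarTower.algebraMap_apply E L A,
      ← IsScalarTower.algebraMap_apply k E A]
  have h1 := H52.FBase.Components.isConnected_preimage_bcMap k X L A hS
    (hS'.preimage (Components.bcMap k X E L).continuous)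
  have hcomp : Components.bcMap k X L A ≫ Components.bcMap k X E L = Components.bcMap k X E A := by
    refine pullback.hom_ext ?_ ?_
    · simp only [Category.assoc, Components.bcMap_fst]
    · simp only [Category.assoc, Components.bcMap_snd, Components.bcMap_snd_assoc]
      rw [← Spec.map_comp, ← CommRingCat.ofHom_comp, ← IsScalarTower.algebraMap_eq]
  have hcompK : Components.bcMap k X K A ≫ Components.bcMap k X E K = Components.bcMap k X E A := by
    refine pullback.hom_ext ?_ ?_
    · simp only [Category.assoc, Components.bcMap_fst]
    · simp only [Category.assoc, Components.bcMap_snd, Components.bcMap_snd_assoc]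
      rw [← Spec.map_comp, ← CommRingCat.ofHom_comp, ← IsScalarTower.algebraMap_eq]
  let e := (Components.isPullback_bcMap k X E K).isoPullback
  have he : e.hom ≫ pullback.fst (Curv2.bcSnd k X E) (Spec.map (CommRingCat.ofHom (algebraMap E K))) =
      Components.bcMap k X E K := (Components.isPullback_bcMap k X E K).isoPullback_hom_fst
  let m := Components.bcMap k X K A ≫ e.hom
  convert h1.image m m.continuous.continuousOn using 1
  ext w
  constructor
  · intro hw
    obtain ⟨v, rfl⟩ := e.hom.surjective w
    obtain ⟨a, rfl⟩ := Components.bcMap_surjective k X K A v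
    refine ⟨a, ?_, rfl⟩
    show (Components.bcMap k X L A ≫ Components.bcMap k X E L) a ∈ S
    rw [hcomp, ← hcompK, ← he]
    exact hw
  · rintro ⟨a, ha, rfl⟩
    have ha' : (Components.bcMap k X L A ≫ Components.bcMap k X E L) a ∈ S := ha
    rw [hcomp, ← hcompK, ← he] at ha'
    exact ha'

end Groth.Agent.H52.FBase.ComponentsSep
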