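import Groth.Agent.H52.FBase.DimBC
import Groth.Agent.Lib.ProjDim.Tensor
import Groth.Agent.H52.FBase.NoEmb

/-!
Dimension of the components of a product of integral schemes over a field.
-/

universe u

open CategoryTheory CategoryTheory.Limits AlgebraicGeometry TensorProduct
open Groth.Agent.Lib.PointDim.Basic Groth.Agent.Lib.Flat55

namespace Groth.Agent.H52.FBase.DimProd

variable {k : Type u} [Field k] {X Y : Scheme.{u}}

theorem isDomain_of_chart [IsIntegral X] {A : CommRingCat.{u}} (ι : Spec A ⟶ X) [IsOpenImmersion ι]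
    (p : Spec A) : IsDomain A := by
  have : Nonempty ↥(Spec A) := ⟨p⟩
  have : IsIntegral (Spec A) := isIntegral_of_isOpenImmersion ι
  exact (affine_isIntegral_iff A).mp this

theorem eq_bot_of_generic {A : CommRingCat.{u}} [IsDomain A] (ι : Spec A ⟶ X) [IsOpenImmersion ι]
    (p : PrimeSpectrum A) (h : ι p ∈ genericPoints X) : p.asIdeal = ⊥ := by
  have : (⊥ : Ideal A).IsPrime := Ideal.isPrime_bot
  let b : PrimeSpectrum A := ⟨⊥, this⟩
  have h1 : ι b ⤳ ι p := ((PrimeSpectrum.le_iff_specializes b p).mp bot_le).map ι.continuous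
  exact congrArg PrimeSpectrum.asIdeal (ι.isOpenEmbedding.injective (GenericPoints.eq_of_specializes h h1)).symm

theorem dim_eq (f : X ⟶ Spec (CommRingCat.of k)) [LocallyOfFiniteType f] [IrreducibleSpace X] (x : X)
    (hx : x ∈ genericPoints X) : topologicalKrullDim ↥X = (natTdeg f x : WithBot ℕ∞) := by
  rw [← topologicalKrullDim_closure_singleton f x]
  have h : closure ({x} : Set X) = Set.univ :=
    hx.eq_of_ge (IrreducibleSpace.isIrreducible_univ X) (Set.subset_univ _) |>.symm
  rw [h]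
  exact (IsHomeomorph.topologicalKrullDim_eq _ (Homeomorph.Set.univ X).isHomeomorph).symm

theorem dim_component_prod (f : X ⟶ Spec (CommRingCat.of k)) (g : Y ⟶ Spec (CommRingCat.of k))
    [IsIntegral X] [IsIntegral Y] [LocallyOfFiniteType f] [LocallyOfFiniteType g]
    (Z : Set ↥(pullback f g)) (hZ : Z ∈ irreducibleComponents ↥(pullback f g)) :
    topologicalKrullDim ↥Z = topologicalKrullDim ↥X + topologicalKrullDim ↥Y := by
  obtain ⟨η, hη, rfl⟩ := GenericPoints.exists_closure_eq hZ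
  have : Flat f := Groth.Agent.Lib.FibreDeg.Basic.flat_of_field f
  have : Flat g := Groth.Agent.Lib.FibreDeg.Basic.flat_of_field g
  have hx := GenericPoints.map_mem_of_flat (pullback.fst f g) hη
  have hy := GenericPoints.map_mem_of_flat (pullback.snd f g) hη
  obtain ⟨A, ι, hι, ⟨p, hp⟩, φ, hφ, hcomm⟩ := exists_chart f (pullback.fst f g η)
  obtain ⟨B, κ, hκ, ⟨q, hq⟩, ψ, hψ, hcomm'⟩ := exists_chart g (pullback.snd f g η)
  let : Algebra k A := φ.hom.toAlgebra
  let : Algebra k B := ψ.hom.toAlgebra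
  have : Algebra.FiniteType k A := hφ
  have : Algebra.FiniteType k B := hψ
  have : IsDomain A := isDomain_of_chart ι p
  have : IsDomain B := isDomain_of_chart κ q
  let σA := Spec.map (CommRingCat.ofHom (algebraMap k A))
  let σB := Spec.map (CommRingCat.ofHom (algebraMap k B))
  let w : pullback σA σB ⟶ pullback f g := pullback.map σA σB f g ι κ (𝟙 _)
    ((Category.comp_id _).trans hcomm.symm) ((Category.comp_id _).trans hcomm'.symm)
  let j : Spec (CommRingCat.of (A ⊗[k] B)) ⟶ pullback f g := (pullbackSpecIso k A B).inv ≫ w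
  have hjs : j ≫ pullback.fst f g ≫ f = Spec.map (CommRingCat.ofHom (algebraMap k (A ⊗[k] B))) := by
    have hw1 : w ≫ pullback.fst f g = pullback.fst σA σB ≫ ι := pullback.lift_fst _ _ _
    rw [Category.assoc, ← Category.assoc w, hw1, Category.assoc, hcomm]
    erw [pullbackSpecIso_inv_fst_assoc]
    rw [← Spec.map_comp]
    rfl
  obtain ⟨t, ht⟩ : η ∈ Set.range w := by
    rw [Scheme.Pullback.range_map]
    exact ⟨⟨p, hp⟩, ⟨q, hq⟩⟩
  obtain ⟨Q, hQ⟩ := (pullbackSpecIso k A B).inv.surjective t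
  have hjQ : j Q = η := by
    show w ((pullbackSpecIso k A B).inv Q) = η
    rw [hQ, ht]
  let QQ : PrimeSpectrum (A ⊗[k] B) := Q
  have hmin : QQ.asIdeal ∈ minimalPrimes (A ⊗[k] B) := by
    refine ⟨⟨QQ.2, bot_le⟩, fun R hR hle => ?_⟩
    let RR : PrimeSpectrum (A ⊗[k] B) := ⟨R, hR.1⟩
    have h1 : j RR ⤳ η := by
      rw [← hjQ]
      exact ((PrimeSpectrum.le_iff_specializes RR QQ).mp hle).map j.continuous
    have h3 : RR = QQ := j.isOpenEmbedding.injective ((GenericPoints.eq_of_specializes hη h1).trans hjQ.symm)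
    exact (congrArg PrimeSpectrum.asIdeal h3).ge
  have hd := Groth.Agent.Lib.ProjDim.Tensor.dimQ_minimalPrimes_tensor A B QQ.asIdeal hmin
  have hft := Groth.Agent.Lib.ProjDim.Tensor.finiteType_tensor (k := k) A B
  have h3 : natTdeg (pullback.fst f g ≫ f) η = Groth.Agent.Lib.Dim.Basic.dimQ k QQ.asIdeal := by
    have h := tdeg_chart (A := CommRingCat.of (A ⊗[k] B)) (pullback.fst f g ≫ f) j
      (CommRingCat.ofHom (algebraMap k (A ⊗[k] B))) (RingHom.finiteType_algebraMap.mpr hft) hjs QQ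
    rw [natTdeg, ← hjQ, h, Cardinal.toNat_natCast]
    congr 1
  have h1 : natTdeg f (pullback.fst f g η) = Groth.Agent.Lib.Dim.Basic.dimQ k p.asIdeal := by
    rw [natTdeg, ← hp, tdeg_chart f ι φ hφ hcomm p, Cardinal.toNat_natCast]
  have h2 : natTdeg g (pullback.snd f g η) = Groth.Agent.Lib.Dim.Basic.dimQ k q.asIdeal := by
    rw [natTdeg, ← hq, tdeg_chart g κ ψ hψ hcomm' q, Cardinal.toNat_natCast]
  have eA : Groth.Agent.Lib.Dim.Basic.dimQ k p.asIdeal = Groth.Agent.Lib.Dim.Basic.trdegNat k A := by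
    have : p.asIdeal.IsPrime := p.2
    have h := Groth.Agent.Lib.Dim.Basic.ringKrullDim_quotient_prime k p.asIdeal
    rw [ringKrullDim_eq_of_ringEquiv ((Ideal.quotEquivOfEq (eq_bot_of_generic ι p (hp ▸ hx))).trans
      (RingEquiv.quotientBot A)), Groth.Agent.Lib.Dim.Basic.ringKrullDim_eq_trdegNat k A] at h
    exact_mod_cast h.symm
  have eB : Groth.Agent.Lib.Dim.Basic.dimQ k q.asIdeal = Groth.Agent.Lib.Dim.Basic.trdegNat k B := by
    have : q.asIdeal.IsPrime := q.2
    have h := Groth.Agent.Lib.Dim.Basic.ringKrullDim_quotient_prime k q.asIdeal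
    rw [ringKrullDim_eq_of_ringEquiv ((Ideal.quotEquivOfEq (eq_bot_of_generic κ q (hq ▸ hy))).trans
      (RingEquiv.quotientBot B)), Groth.Agent.Lib.Dim.Basic.ringKrullDim_eq_trdegNat k B] at h
    exact_mod_cast h.symm
  rw [topologicalKrullDim_closure_singleton (pullback.fst f g ≫ f), dim_eq f _ hx, dim_eq g _ hy, h1, h2,
    h3, hd, eA, eB]
  rfl

end Groth.Agent.H52.FBase.DimProd
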