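import Groth.Agent.H52.FBase.PurInsepRed

/-!
Geometric reducedness from finite purely inseparable extensions; spectra of tensor products.
-/

universe u

open CategoryTheory CategoryTheory.Limits AlgebraicGeometry TensorProduct

namespace Groth.Agent.H52.FBase.GRFinite

theorem isGeometricallyReduced_of_finite {k A : Type u} [Field k] [CommRing A] [Algebra k A]
    (h : ∀ (k' : Type u) [Field k'] [Algebra k k'] [FiniteDimensional k k'] [IsPurelyInseparable k k'],
      _root_.IsReduced (A ⊗[k] k')) : Algebra.IsGeometricallyReduced k A := by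
  classical
  let P := perfectClosure k (AlgebraicClosure k)
  suffices _root_.IsReduced (↥P ⊗[k] A) from PurInsepRed.isGeometricallyReduced_descend (P := ↥P)
  constructor
  intro z hz
  obtain ⟨S, hS⟩ := TensorProduct.exists_finset z
  let T : Set (AlgebraicClosure k) := ↑(S.image fun i => (i.1 : AlgebraicClosure k))
  have hTP : IntermediateField.adjoin k T ≤ P := by
    rw [IntermediateField.adjoin_le_iff]
    intro a ha
    obtain ⟨i, -, rfl⟩ := Finset.mem_image.mp ha
    exact i.1.2
  let k' := IntermediateField.adjoin k T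
  have hfd : FiniteDimensional k k' :=
    IntermediateField.finiteDimensional_adjoin fun a _ => Algebra.IsIntegral.isIntegral a
  have hpi : IsPurelyInseparable k k' := (le_perfectClosure_iff _ _ _).mp hTP
  have hred : _root_.IsReduced (A ⊗[k] ↥k') := h ↥k'
  let m : ↥k' ⊗[k] A →ₐ[k] ↥P ⊗[k] A :=
    Algebra.TensorProduct.map (IntermediateField.inclusion hTP) (AlgHom.id k A)
  have hm : Function.Injective m :=
    Module.Flat.rTensor_preserves_injective_linearMap (M := A) (IntermediateField.inclusion hTP).toLinearMap
      (IntermediateField.inclusion hTP).injective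
  obtain ⟨w, rfl⟩ : ∃ w, m w = z := by
    refine ⟨∑ i ∈ S.attach, (⟨(i.1.1 : AlgebraicClosure k), IntermediateField.subset_adjoin k T
      (Finset.mem_image.mpr ⟨i.1, i.2, rfl⟩)⟩ : ↥k') ⊗ₜ[k] i.1.2, ?_⟩
    rw [map_sum, hS]
    conv_rhs => rw [← Finset.sum_attach]
    rfl
  have hw : IsNilpotent w := by
    obtain ⟨n, hn⟩ := hz
    exact ⟨n, hm ((RingHom.map_pow m.toRingHom w n).trans (hn.trans (RingHom.map_zero m.toRingHom).symm))⟩
  have : _root_.IsReduced (↥k' ⊗[k] A) :=
    isReduced_of_injective (Algebra.TensorProduct.comm k ↥k' A) (AlgEquiv.injective _)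
  rw [hw.eq_zero, map_zero]

variable {k : Type u} [Field k] {X : Scheme.{u}} (f : X ⟶ Spec (CommRingCat.of k)) (x : X)

/-- The structure map `k → κ(x)`. -/
noncomputable def ψ : k →+* X.residueField x := (Spec.preimage (X.fromSpecResidueField x ≫ f)).hom

theorem specMap_ψ : Spec.map (CommRingCat.ofHom (ψ f x)) = X.fromSpecResidueField x ≫ f :=
  Spec.map_preimage _

/-- `κ(x)` as a `k`-algebra. -/
def Kx (_ : X ⟶ Spec (CommRingCat.of k)) (x : X) : Type u := X.residueField x

noncomputable instance : Field (Kx f x) := inferInstanceAs (Field (X.residueField x))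

noncomputable instance : Algebra k (Kx f x) := RingHom.toAlgebra (ψ f x)

variable (A : Type u) [CommRing A] [Algebra k A]

/-- `Spec κ(x) ×_k Spec A ≅ Spec (κ(x) ⊗ A)`. -/
noncomputable def isoT :
    pullback (X.fromSpecResidueField x ≫ f) (Spec.map (CommRingCat.ofHom (algebraMap k A))) ≅
      Spec (CommRingCat.of (Kx f x ⊗[k] A)) :=
  pullback.congrHom (specMap_ψ f x).symm rfl ≪≫ pullbackSpecIso k (Kx f x) A

/-- The fibre of the base change. -/
noncomputable def fiberIso :
    (pullback.fst f (Spec.map (CommRingCat.ofHom (algebraMap k A)))).fiber x ≅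
      Spec (CommRingCat.of (Kx f x ⊗[k] A)) :=
  pullbackSymmetry _ _ ≪≫ pullbackRightPullbackFstIso f _ (X.fromSpecResidueField x) ≪≫ isoT f x A

theorem isReduced_fiber [Algebra.IsGeometricallyReduced k (Kx f x)] (K : Type u) [Field K] [Algebra k K]
    (a : (pullback.fst f (Spec.map (CommRingCat.ofHom (algebraMap k K)))).fiber x) :
    _root_.IsReduced (((pullback.fst f (Spec.map (CommRingCat.ofHom (algebraMap k K)))).fiber x).presheaf.stalk a) := by
  have := GeomRed.isReduced_tensor_field (k := k) (A := Kx f x) K
  have : IsReduced (Spec (CommRingCat.of (Kx f x ⊗[k] K))) := inferInstance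
  have := isReduced_of_isOpenImmersion (fiberIso f x K).hom
  infer_instance

theorem exists_pow_eq_bot_fiber [Module.Finite k A]
    (a : (pullback.fst f (Spec.map (CommRingCat.ofHom (algebraMap k A)))).fiber x) :
    ∃ N, IsLocalRing.maximalIdeal
      (((pullback.fst f (Spec.map (CommRingCat.ofHom (algebraMap k A)))).fiber x).presheaf.stalk a) ^ N = ⊥ := by
  let e := fiberIso f x A
  let R := Kx f x ⊗[k] A
  have : Module.Finite (Kx f x) R := inferInstance
  have : IsArtinianRing R := IsArtinianRing.of_finite (Kx f x) R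
  let q : Ideal R := PrimeSpectrum.asIdeal (R := R) (e.hom a)
  have : q.IsPrime := (e.hom a).isPrime
  have : IsArtinianRing (Localization.AtPrime q) := inferInstanceAs (IsArtinianRing (Localization q.primeCompl))
  let eq : (((pullback.fst f (Spec.map (CommRingCat.ofHom (algebraMap k A)))).fiber x).presheaf.stalk a) ≃+*
      Localization.AtPrime q :=
    (asIso (e.hom.stalkMap a)).commRingCatIsoToRingEquiv.symm.trans (Spec.stalkIso _ (e.hom a)).commRingCatIsoToRingEquiv
  obtain ⟨N, hN⟩ := (isArtinianRing_iff_isNilpotent_maximalIdeal (Localization.AtPrime q)).mp inferInstance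
  refine ⟨N, eq_bot_iff.mpr fun c hc => ?_⟩
  have h1 : eq c ∈ IsLocalRing.maximalIdeal (Localization.AtPrime q) ^ N := by
    have h2 := Ideal.mem_map_of_mem eq.toRingHom hc
    rw [Ideal.map_pow] at h2
    refine Ideal.pow_right_mono ?_ N h2
    exact Ideal.map_le_iff_le_comap.mpr fun d hd hu => hd (by simpa using hu.map eq.symm.toRingHom)
  rw [hN] at h1
  exact eq.injective ((show eq c = 0 from h1).trans (map_zero eq).symm)

theorem isReduced_of_fields
    (h : ∀ a : (pullback.fst f (Spec.map (CommRingCat.ofHom (algebraMap k A)))).fiber x,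
      IsField (((pullback.fst f (Spec.map (CommRingCat.ofHom (algebraMap k A)))).fiber x).presheaf.stalk a)) :
    _root_.IsReduced (Kx f x ⊗[k] A) := by
  let Z := (pullback.fst f (Spec.map (CommRingCat.ofHom (algebraMap k A)))).fiber x
  have hst : ∀ a : Z, _root_.IsReduced (Z.presheaf.stalk a) := fun a => by
    let := (h a).toField
    infer_instance
  have : IsReduced Z := isReduced_of_isReduced_stalk Z
  have : IsReduced (Spec (CommRingCat.of (Kx f x ⊗[k] A))) := isReduced_of_isOpenImmersion (fiberIso f x A).inv
  exact (affine_isReduced_iff (CommRingCat.of (Kx f x ⊗[k] A))).mp this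

end Groth.Agent.H52.FBase.GRFinite
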