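import Groth.Agent.H52.FBase.ReducedModBC
import Groth.Agent.H52.FBase.PrimaryGeom

/-!
Integral modules under extensions of the base field.
-/

universe u

open CategoryTheory CategoryTheory.Limits AlgebraicGeometry TensorProduct IsLocalRing

namespace Groth.Agent.H52.FBase.IntegralModBC

open Groth.Agent.H52.FBase.GRFinite Groth.Agent.H52.Ass.RedMod Groth.Agent.H52.FBase.ReducedModBC
open Groth.Agent.Lib Groth.Agent.Lib.Flat55
open Groth.Agent.H52.Ass.FlatTensor Groth.Agent.H52.Ass.FlatTensorScheme

section Field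

theorem isDomain_of_subsingleton {R : Type u} [CommRing R] [_root_.IsReduced R] [Nontrivial R]
    [Subsingleton (PrimeSpectrum R)] : IsDomain R := by
  obtain ⟨M, hM⟩ := Ideal.exists_maximal R
  have h : M ≤ nilradical R := by
    rw [nilradical_eq_sInf]
    refine le_sInf fun q hq => ?_
    exact (congrArg PrimeSpectrum.asIdeal
      (Subsingleton.elim (⟨M, hM.isPrime⟩ : PrimeSpectrum R) ⟨q, hq⟩)).le
  have h0 : M = ⊥ := eq_bot_iff.mpr (h.trans (nilradical_eq_zero R).le)
  have : (⊥ : Ideal R).IsPrime := h0 ▸ hM.isPrime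
  exact IsDomain.of_bot_isPrime R

theorem finrank_eq_one_of_isDomain {k κ L : Type u} [Field k] [Field κ] [Field L] [Algebra k κ] [Algebra k L]
    [FiniteDimensional k L] (ι : L →ₐ[k] κ) (hd : IsDomain (κ ⊗[k] L)) : Module.finrank k L = 1 := by
  let m : L ⊗[k] L →ₐ[k] κ ⊗[k] L := Algebra.TensorProduct.map ι (AlgHom.id k L)
  have hm : Function.Injective m :=
    Module.Flat.rTensor_preserves_injective_linearMap (M := L) ι.toLinearMap ι.injective
  have : IsDomain (L ⊗[k] L) := Function.Injective.isDomain m.toRingHom hm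
  have : IsArtinianRing (L ⊗[k] L) := IsArtinianRing.of_finite k _
  have hf : IsField (L ⊗[k] L) := IsArtinianRing.isField_of_isDomain _
  let := hf.toField
  have hμ : Function.Injective (Algebra.TensorProduct.lmul' k (S := L)) :=
    RingHom.injective (Algebra.TensorProduct.lmul' k (S := L)).toRingHom
  have hle : Module.finrank k (L ⊗[k] L) ≤ Module.finrank k L :=
    LinearMap.finrank_le_finrank_of_injective (f := (Algebra.TensorProduct.lmul' k (S := L)).toLinearMap) hμ
  rw [Module.finrank_tensorProduct] at hle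
  have hpos : 0 < Module.finrank k L := Module.finrank_pos
  exact le_antisymm (Nat.le_of_mul_le_mul_left (a := Module.finrank k L) (by rw [mul_one]; exact hle) hpos) hpos

theorem separableClosure_eq_bot {k κ : Type u} [Field k] [Field κ] [Algebra k κ]
    (h : ∀ (k' : Type u) [Field k'] [Algebra k k'] [FiniteDimensional k k'],
      IsDomain (κ ⊗[k] k')) : separableClosure k κ = ⊥ := by
  rw [eq_bot_iff]
  intro s hs
  have hint : IsIntegral k s := (mem_separableClosure_iff.mp hs).isIntegral
  let L := IntermediateField.adjoin k {s}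
  have : FiniteDimensional k L := IntermediateField.adjoin.finiteDimensional hint
  have h1 := finrank_eq_one_of_isDomain L.val (h ↥L)
  have hbot := IntermediateField.finrank_eq_one_iff.mp h1
  exact hbot.le (IntermediateField.mem_adjoin_simple_self k s)

end Field

variable {k : Type u} [Field k] {X : Scheme.{u}} [IsLocallyNoetherian X] (f : X ⟶ Spec (CommRingCat.of k))
  (F : X.Modules)

theorem isReducedMod_of_integral {T : Scheme.{u}} {M : T.Modules}
    (h : ∃ x', AssSch.Ass M = {x'} ∧ Module.length (T.presheaf.stalk x') (M.presheaf.stalk x') = 1) :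
    AssSch.IsReducedMod M := by
  obtain ⟨x', hx', hl⟩ := h
  refine ⟨fun a ha b hb _ => ?_, fun a ha => ?_⟩
  · rw [hx'] at ha hb
    exact ha.trans hb.symm
  · rw [hx'] at ha
    subst ha
    exact hl

theorem integral_base
    (h : ∀ (k' : Type u) [Field k'] [Algebra k k'] [FiniteDimensional k k'],
        ∃ x' : ↥(_root_.FBase.bc f k'), AssSch.Ass ((Scheme.Modules.pullback (_root_.FBase.bcπ f k')).obj F) = {x'} ∧
          Module.length ↑((_root_.FBase.bc f k').presheaf.stalk x') ↑(((Scheme.Modules.pullback (_root_.FBase.bcπ f k')).obj F).presheaf.stalk x') = 1) :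
    ∃ x, AssSch.Ass F = {x} ∧ Module.length (X.presheaf.stalk x) (F.presheaf.stalk x) = 1 ∧
      Algebra.IsGeometricallyReduced k (Kx f x) ∧ separableClosure k (Kx f x) = ⊥ := by
  obtain ⟨hF, hGR⟩ := isReducedMod_of_finite f F fun k' _ _ _ _ => isReducedMod_of_integral (h k')
  -- any associated point lifts to an associated point of every finite extension
  have lift : ∀ (k' : Type u) [Field k'] [Algebra k k'] [FiniteDimensional k k'], ∀ x ∈ AssSch.Ass F,
      ∀ a : (_root_.FBase.bcπ f k').fiber x,
        (_root_.FBase.bcπ f k').fiberι x a ∈ AssSch.Ass ((Scheme.Modules.pullback (_root_.FBase.bcπ f k')).obj F) := by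
    intro k' _ _ _ x hx a
    have := isLocallyNoetherian_bc f k'
    have := flat_bcπ f k'
    refine (mem_ass_pullback (_root_.FBase.bcπ f k') F _).mpr ?_
    have hxa : (_root_.FBase.bcπ f k') ((_root_.FBase.bcπ f k').fiberι x a) = x := by
      have : (_root_.FBase.bcπ f k').fiberι x a ∈ (_root_.FBase.bcπ f k') ⁻¹' {x} := by
        rw [← (_root_.FBase.bcπ f k').range_fiberι]; exact ⟨a, rfl⟩
      exact this
    have hfld := isField_of_isReducedMod (_root_.FBase.bcπ f k') F (isReducedMod_of_integral (h k')) hx (hF.2 x hx) a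
      (exists_pow_eq_bot_fiber f x k' a)
    refine ⟨by rw [hxa]; exact hx, hasAss_of_socle (v := 1) (fun h1 =>
      ((isMaximal_mI_iff_isField _ x a).mpr hfld).ne_top (Ideal.Quotient.zero_eq_one_iff.mp h1.symm)) fun c hc => ?_⟩
    · rw [Algebra.smul_def, mul_one]
      refine Ideal.Quotient.eq_zero_iff_mem.mpr ?_
      rw [IsLocalRing.eq_maximalIdeal ((isMaximal_mI_iff_isField _ x a).mpr hfld)]
      exact hc
  obtain ⟨x', hx', -⟩ := h k
  have := isLocallyNoetherian_bc f k
  have := flat_bcπ f k
  have hxF : (_root_.FBase.bcπ f k) x' ∈ AssSch.Ass F :=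
    ((mem_ass_pullback (_root_.FBase.bcπ f k) F x').mp (hx' ▸ Set.mem_singleton x')).1
  have hone : ∀ y ∈ AssSch.Ass F, y = (_root_.FBase.bcπ f k) x' := by
    intro y hy
    have : Surjective (Spec.map (CommRingCat.ofHom (algebraMap k k))) := Descend.surjective_specMap_field k k
    have : Surjective (_root_.FBase.bcπ f k) :=
      inferInstanceAs (Surjective (pullback.fst f (Spec.map (CommRingCat.ofHom (algebraMap k k)))))
    obtain ⟨z, hz⟩ := (_root_.FBase.bcπ f k).surjective y
    obtain ⟨a, ha⟩ : z ∈ Set.range ((_root_.FBase.bcπ f k).fiberι y) := by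
      rw [(_root_.FBase.bcπ f k).range_fiberι]; exact hz
    have := lift k y hy a
    rw [hx', Set.mem_singleton_iff, ha] at this
    rw [← hz, this]
  refine ⟨_, Set.eq_singleton_iff_unique_mem.mpr ⟨hxF, hone⟩, hF.2 _ hxF, hGR _ hxF, ?_⟩
  refine separableClosure_eq_bot fun k' _ _ _ => ?_
  let x := (_root_.FBase.bcπ f k) x'
  have := hGR x hxF
  have := GeomRed.isReduced_tensor_field (k := k) (A := Kx f x) k'
  have : Nontrivial (Kx f x ⊗[k] k') :=
    (Algebra.TensorProduct.includeLeft_injective (S := k) (RingHom.injective (algebraMap k k'))).nontrivial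
  obtain ⟨w, hw, -⟩ := h k'
  have hsub : Subsingleton ((_root_.FBase.bcπ f k').fiber x) := ⟨fun a b =>
    ((_root_.FBase.bcπ f k').fiberι x).isEmbedding.injective
      ((Set.mem_singleton_iff.mp (hw ▸ lift k' x hxF a)).trans (Set.mem_singleton_iff.mp (hw ▸ lift k' x hxF b)).symm)⟩
  have : Subsingleton (PrimeSpectrum (Kx f x ⊗[k] k')) :=
    @Equiv.subsingleton _ _ (fiberIso f x k').inv.homeomorph.toEquiv hsub
  exact isDomain_of_subsingleton

theorem integral_bc (x : X) (hx : AssSch.Ass F = {x})
    (hl : Module.length (X.presheaf.stalk x) (F.presheaf.stalk x) = 1)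
    (hGR : Algebra.IsGeometricallyReduced k (Kx f x)) (hsep : separableClosure k (Kx f x) = ⊥)
    (K : Type u) [Field K] [Algebra k K] [IsLocallyNoetherian (_root_.FBase.bc f K)] :
    ∃ x' : ↥(_root_.FBase.bc f K), AssSch.Ass ((Scheme.Modules.pullback (_root_.FBase.bcπ f K)).obj F) = {x'} ∧
      Module.length ↑((_root_.FBase.bc f K).presheaf.stalk x') ↑(((Scheme.Modules.pullback (_root_.FBase.bcπ f K)).obj F).presheaf.stalk x') = 1 := by
  let π := _root_.FBase.bcπ f K
  have := flat_bcπ f K
  have hF : AssSch.IsReducedMod F := isReducedMod_of_integral ⟨x, hx, hl⟩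
  have hred := isReducedMod_bc f F hF (fun y hy => by rw [hx, Set.mem_singleton_iff] at hy; subst hy; exact hGR) K
  have hrf : ∀ a : π.fiber x, _root_.IsReduced ((π.fiber x).presheaf.stalk a) := fun a => isReduced_fiber f x K a
  have hirr : IrreducibleSpace ↥(π.fiber x) := by
    have h1 : IrreducibleSpace ↥(Spec (CommRingCat.of (Kx f x ⊗[k] K))) :=
      (pullbackSpecIso k (Kx f x) K).hom.homeomorph.irreducibleSpace_iff.mp
        (PrimaryGeom.irreducibleSpace_bc_spec (Kx f x) hsep K)
    exact (fiberIso f x K).hom.homeomorph.irreducibleSpace_iff.mpr h1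
  let η := genericPoint ↥(π.fiber x)
  have hη : η ∈ genericPoints (π.fiber x) := by
    show closure {η} ∈ irreducibleComponents _
    rw [genericPoint_closure, irreducibleComponents_eq_singleton]
    exact Set.mem_singleton _
  have hηf : IsField ((π.fiber x).presheaf.stalk η) := by
    have := hrf η
    rw [IsLocalRing.isField_iff_maximalIdeal_eq, eq_bot_iff]
    exact fun c hc => ((NoEmb.mem_genericPoints_iff η).mp hη c hc).eq_zero
  have hπ : π (π.fiberι x η) = x := by
    have : π.fiberι x η ∈ π ⁻¹' {x} := by rw [← π.range_fiberι]; exact ⟨η, rfl⟩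
    exact this
  have hmem : π.fiberι x η ∈ AssSch.Ass ((Scheme.Modules.pullback π).obj F) := by
    refine (mem_ass_pullback π F _).mpr ⟨by rw [hπ, hx]; rfl, hasAss_of_socle (v := 1) (fun h1 =>
      ((isMaximal_mI_iff_isField π x η).mpr hηf).ne_top (Ideal.Quotient.zero_eq_one_iff.mp h1.symm)) fun c hc => ?_⟩
    rw [Algebra.smul_def, mul_one]
    refine Ideal.Quotient.eq_zero_iff_mem.mpr ?_
    rw [IsLocalRing.eq_maximalIdeal ((isMaximal_mI_iff_isField π x η).mpr hηf)]
    exact hc
  refine ⟨_, Set.eq_singleton_iff_unique_mem.mpr ⟨hmem, fun z hz => ?_⟩, hred.2 _ hmem⟩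
  have hzx : π z = x := by
    have := ((mem_ass_pullback π F z).mp hz).1
    rwa [hx, Set.mem_singleton_iff] at this
  obtain ⟨a, rfl⟩ : z ∈ Set.range (π.fiberι x) := by rw [π.range_fiberι]; exact hzx
  exact hred.1 _ hz _ hmem ((genericPoint_specializes a).map (π.fiberι x).continuous)

end Groth.Agent.H52.FBase.IntegralModBC
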