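import Groth.Agent.Lib.Flat55.GenericPoints
import Groth.Agent.Lib.FibreDeg.Basic
import Mathlib.AlgebraicGeometry.IdealSheaf.Functorial
import Mathlib.AlgebraicGeometry.Morphisms.UniversallyOpen

/-!
Irreducible components of a product over a field.
-/

universe u

open CategoryTheory CategoryTheory.Limits AlgebraicGeometry
open Groth.Agent.Lib.Flat55

namespace Groth.Agent.H52.FBase.ProdComp

variable {k : Type u} [Field k] {X Y : Scheme.{u}}
  (f : X ⟶ Spec (CommRingCat.of k)) (g : Y ⟶ Spec (CommRingCat.of k))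

theorem exists_lift_fst {Z : Set Y} (hZ : IsClosed Z) (z : ↥(pullback f g))
    (hz : pullback.snd f g z ∈ Z) {ξ : X} (hξ : ξ ⤳ pullback.fst f g z) :
    ∃ z1 : ↥(pullback f g), z1 ⤳ z ∧ pullback.fst f g z1 = ξ ∧ pullback.snd f g z1 ∈ Z := by
  let I := Scheme.IdealSheafData.vanishingIdeal (X := Y) ⟨Z, hZ⟩
  let i := I.subschemeι
  have hr : Set.range i = Z := by
    rw [Scheme.IdealSheafData.range_subschemeι, Scheme.IdealSheafData.coe_support_vanishingIdeal]
    rfl
  let w : pullback f (i ≫ g) ⟶ pullback f g :=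
    pullback.map f (i ≫ g) f g (𝟙 X) i (𝟙 _) (by simp) (by simp)
  have hw : z ∈ Set.range w := by
    rw [Scheme.Pullback.range_map]
    exact ⟨⟨_, rfl⟩, show pullback.snd f g z ∈ Set.range i from hr.symm ▸ hz⟩
  obtain ⟨t, rfl⟩ := hw
  have hfst : w ≫ pullback.fst f g = pullback.fst f (i ≫ g) := (pullback.lift_fst _ _ _).trans (Category.comp_id _)
  have hsnd : w ≫ pullback.snd f g = pullback.snd f (i ≫ g) ≫ i := pullback.lift_snd _ _ _
  have : Flat (i ≫ g) := Groth.Agent.Lib.FibreDeg.Basic.flat_of_field _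
  have hξ' : ξ ⤳ pullback.fst f (i ≫ g) t := by rw [← hfst]; exact hξ
  obtain ⟨t1, ht1, ht1'⟩ := Flat.generalizingMap (pullback.fst f (i ≫ g)) hξ'
  refine ⟨w t1, ht1.map w.continuous, ?_, ?_⟩
  · rw [← Scheme.Hom.comp_apply, hfst]; exact ht1'
  · rw [← Scheme.Hom.comp_apply, hsnd, Scheme.Hom.comp_apply, ← hr]
    exact Set.mem_range_self _

theorem exists_lift_snd {Z : Set X} (hZ : IsClosed Z) (z : ↥(pullback f g))
    (hz : pullback.fst f g z ∈ Z) {ξ : Y} (hξ : ξ ⤳ pullback.snd f g z) :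
    ∃ z1 : ↥(pullback f g), z1 ⤳ z ∧ pullback.snd f g z1 = ξ ∧ pullback.fst f g z1 ∈ Z := by
  let σ := (pullbackSymmetry f g).hom
  obtain ⟨z', h1, h2, h3⟩ := exists_lift_fst g f hZ (σ z)
    (by rw [← Scheme.Hom.comp_apply, pullbackSymmetry_hom_comp_snd]; exact hz) (ξ := ξ)
    (by rw [← Scheme.Hom.comp_apply, pullbackSymmetry_hom_comp_fst]; exact hξ)
  obtain ⟨z1, rfl⟩ := σ.surjective z'
  refine ⟨z1, σ.isEmbedding.isInducing.specializes_iff.mp h1, ?_, ?_⟩
  · rwa [← Scheme.Hom.comp_apply, pullbackSymmetry_hom_comp_fst] at h2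
  · rwa [← Scheme.Hom.comp_apply, pullbackSymmetry_hom_comp_snd] at h3

theorem components_iff (W : Set ↥(pullback f g)) :
    W ∈ irreducibleComponents ↥(pullback f g) ↔
      ∃ X' ∈ irreducibleComponents ↥X, ∃ Y' ∈ irreducibleComponents ↥Y,
        Maximal (fun V : Set ↥(pullback f g) => IsIrreducible V ∧
          V ⊆ ⇑(pullback.fst f g) ⁻¹' X' ∩ ⇑(pullback.snd f g) ⁻¹' Y') W := by
  have : Flat f := Groth.Agent.Lib.FibreDeg.Basic.flat_of_field f
  have : Flat g := Groth.Agent.Lib.FibreDeg.Basic.flat_of_field g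
  constructor
  · intro hW
    obtain ⟨η, hη, rfl⟩ := GenericPoints.exists_closure_eq hW
    refine ⟨_, GenericPoints.map_mem_of_flat (pullback.fst f g) hη,
      _, GenericPoints.map_mem_of_flat (pullback.snd f g) hη, ⟨hW.1, ?_⟩, fun V hV hle => hW.2 hV.1 hle⟩
    exact closure_minimal (Set.singleton_subset_iff.mpr ⟨subset_closure rfl, subset_closure rfl⟩)
      ((isClosed_closure.preimage (pullback.fst f g).continuous).inter
        (isClosed_closure.preimage (pullback.snd f g).continuous))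
  · rintro ⟨X', hX', Y', hY', ⟨hWi, hWs⟩, hmax⟩
    have hC : IsClosed (⇑(pullback.fst f g) ⁻¹' X' ∩ ⇑(pullback.snd f g) ⁻¹' Y') :=
      ((isClosed_of_mem_irreducibleComponents X' hX').preimage (pullback.fst f g).continuous).inter
        ((isClosed_of_mem_irreducibleComponents Y' hY').preimage (pullback.snd f g).continuous)
    have hWc : IsClosed W := closure_subset_iff_isClosed.mp
      (hmax ⟨hWi.closure, closure_minimal hWs hC⟩ subset_closure)
    obtain ⟨η, hη⟩ := QuasiSober.sober hWi hWc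
    obtain ⟨hηX, hηY⟩ := hWs hη.mem
    have key : ∀ z, z ⤳ η → z ∈ ⇑(pullback.fst f g) ⁻¹' X' ∩ ⇑(pullback.snd f g) ⁻¹' Y' → z = η := by
      intro z hz hzC
      refine (hz.antisymm ?_).eq
      rw [specializes_iff_mem_closure] at hz ⊢
      rw [hη.def]
      refine (hmax ⟨isIrreducible_singleton.closure, closure_minimal (Set.singleton_subset_iff.mpr hzC) hC⟩ ?_)
        (subset_closure rfl)
      rw [← hη.def]
      exact closure_minimal (Set.singleton_subset_iff.mpr hz) isClosed_closure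
    obtain ⟨ξ, hξ, rfl⟩ := GenericPoints.exists_closure_eq hX'
    obtain ⟨ζ, hζ, rfl⟩ := GenericPoints.exists_closure_eq hY'
    obtain ⟨z1, h1, hz1, h1'⟩ := exists_lift_fst f g isClosed_closure η hηY (specializes_iff_mem_closure.mpr hηX)
    obtain rfl := key z1 h1 ⟨show _ ∈ closure _ by rw [hz1]; exact subset_closure rfl, h1'⟩
    obtain ⟨z2, h2, hz2, h2'⟩ := exists_lift_snd f g isClosed_closure z1 hηX (specializes_iff_mem_closure.mpr hηY)
    obtain rfl := key z2 h2 ⟨h2', show _ ∈ closure _ by rw [hz2]; exact subset_closure rfl⟩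
    have hgen : z2 ∈ genericPoints ↥(pullback f g) := by
      refine GenericPoints.mem_of_forall_specializes fun z hz => key z hz ⟨?_, ?_⟩
      · show _ ∈ closure _
        rw [GenericPoints.eq_of_specializes (hz1 ▸ hξ) (hz.map (pullback.fst f g).continuous), hz1]
        exact subset_closure rfl
      · show _ ∈ closure _
        rw [GenericPoints.eq_of_specializes (hz2 ▸ hζ) (hz.map (pullback.snd f g).continuous), hz2]
        exact subset_closure rfl
    rw [← hη.def]
    exact hgen

end Groth.Agent.H52.FBase.ProdComp
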