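import Groth.Agent.H52.FBase.GeomRed
import Mathlib.FieldTheory.PurelyInseparable.PerfectClosure
import Mathlib.RingTheory.EssentialFiniteness
import Mathlib.RingTheory.FiniteStability
import Mathlib.LinearAlgebra.TensorProduct.Finiteness
import Mathlib.RingTheory.Noetherian.Nilpotent

/-!
A finitely generated field extension becomes separable after a finite purely inseparable extension.
-/

universe u

open TensorProduct

namespace Groth.Agent.H52.FBase.PurInsepRed

theorem isNoetherianRing_perfect {k K P : Type u} [Field k] [Field K] [Field P] [Algebra k K]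
    [Algebra k P] [Algebra.EssFiniteType k K] : IsNoetherianRing (P ⊗[k] K) :=
  Algebra.EssFiniteType.isNoetherianRing P _

theorem maximal_le_nilradical {k k' K : Type u} [Field k] [Field k'] [Field K] [Algebra k k']
    [Algebra k K] [IsPurelyInseparable k k'] (m : Ideal (k' ⊗[k] K)) [m.IsMaximal] :
    m = nilradical (k' ⊗[k] K) := by
  refine le_antisymm (fun x hx => ?_) (nilradical_le_prime m)
  obtain ⟨n, hn, c, hc⟩ := IsPurelyInseparable.exists_pow_mem_range_tensorProduct
    (Algebra.TensorProduct.comm k k' K x)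
  have hx' : x ^ n = (1 : k') ⊗ₜ[k] c := by
    apply (Algebra.TensorProduct.comm k k' K).injective
    rw [map_pow, ← hc]
    simp
  by_cases h0 : c = 0
  · exact mem_nilradical.mpr ⟨n, by rw [hx', h0, tmul_zero]⟩
  · refine absurd (Ideal.eq_top_of_isUnit_mem m (m.pow_mem_of_mem hx n hn) ?_) (Ideal.IsMaximal.ne_top ‹m.IsMaximal›)
    rw [hx']
    exact (IsUnit.mk0 c h0).map (Algebra.TensorProduct.includeRight (R := k) (A := k') (B := K))

theorem isGeometricallyReduced_descend {k' P B : Type u} [Field k'] [Field P] [Algebra k' P]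
    [PerfectField P] [CommRing B] [Algebra k' B] [_root_.IsReduced (P ⊗[k'] B)] :
    Algebra.IsGeometricallyReduced k' B := by
  have := GeomRed.isGeometricallyReduced_of_perfectField (k := P) (A := P ⊗[k'] B)
  let L := AlgebraicClosure P
  have : _root_.IsReduced ((P ⊗[k'] B) ⊗[P] L) := GeomRed.isReduced_tensor_field L
  have : _root_.IsReduced (L ⊗[P] (P ⊗[k'] B)) :=
    isReduced_of_injective (Algebra.TensorProduct.comm P L (P ⊗[k'] B)) (AlgEquiv.injective _)
  have : _root_.IsReduced (L ⊗[k'] B) :=
    isReduced_of_injective (Algebra.TensorProduct.cancelBaseChange k' P L L B).symm (AlgEquiv.injective _)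
  rw [Algebra.isGeometricallyReduced_field_iff]
  exact isReduced_of_injective
    (Algebra.TensorProduct.map (IsAlgClosed.lift : AlgebraicClosure k' →ₐ[k'] L) (AlgHom.id k' B))
    (Module.Flat.rTensor_preserves_injective_linearMap _ (RingHom.injective _))

theorem of_nilradical_defined {k k' P K : Type u} [Field k] [Field k'] [Field P] [Field K]
    [Algebra k k'] [Algebra k P] [Algebra k' P] [IsScalarTower k k' P] [Algebra k K] [PerfectField P]
    (s : Finset (P ⊗[k] K)) (hs : Ideal.span (s : Set (P ⊗[k] K)) = nilradical (P ⊗[k] K))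
    (hrange : ∀ x ∈ s, ∃ a : k' ⊗[k] K, Algebra.TensorProduct.cancelBaseChange k k' P P K (1 ⊗ₜ[k'] a) = x) :
    Algebra.IsGeometricallyReduced k' ((k' ⊗[k] K) ⧸ nilradical (k' ⊗[k] K)) := by
  let N : Ideal (k' ⊗[k] K) := nilradical (k' ⊗[k] K)
  let e := Algebra.TensorProduct.cancelBaseChange k k' P P K
  let j : (k' ⊗[k] K) →ₐ[k'] P ⊗[k'] (k' ⊗[k] K) := Algebra.TensorProduct.includeRight
  have hnil : nilradical (P ⊗[k'] (k' ⊗[k] K)) ≤ N.map j.toRingHom := by
    intro z hz
    have h1 : e z ∈ nilradical (P ⊗[k] K) := mem_nilradical.mpr ((mem_nilradical.mp hz).map e)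
    rw [← hs] at h1
    have h2 : Ideal.span (s : Set (P ⊗[k] K)) ≤ (N.map j.toRingHom).comap e.symm := by
      rw [Ideal.span_le]
      intro x hx
      obtain ⟨a, hax⟩ := hrange x hx
      have hjN : a ∈ N := by
        have hxn : IsNilpotent (j a) := by
          refine (IsNilpotent.map_iff e.injective).mp ?_
          show IsNilpotent (e (1 ⊗ₜ[k'] a))
          rw [show e (1 ⊗ₜ[k'] a) = x from hax]
          have hx' : x ∈ nilradical (P ⊗[k] K) := by rw [← hs]; exact Ideal.subset_span hx
          exact mem_nilradical.mp hx'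
        exact mem_nilradical.mpr
          ((IsNilpotent.map_iff (Algebra.TensorProduct.includeRight_injective (RingHom.injective _))).mp hxn)
      show e.symm x ∈ N.map j.toRingHom
      rw [← show e (j a) = x from hax, e.symm_apply_apply]
      exact Ideal.mem_map_of_mem j.toRingHom hjN
    simpa using h2 h1
  have hred : _root_.IsReduced (P ⊗[k'] ((k' ⊗[k] K) ⧸ N)) := by
    let ψ : P ⊗[k'] (k' ⊗[k] K) →ₐ[k'] P ⊗[k'] ((k' ⊗[k] K) ⧸ N) :=
      Algebra.TensorProduct.map (AlgHom.id k' P) (Ideal.Quotient.mkₐ k' N)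
    have hψ : Function.Surjective ψ :=
      LinearMap.lTensor_surjective P (g := (Ideal.Quotient.mkₐ k' N).toLinearMap) Ideal.Quotient.mk_surjective
    have hker : RingHom.ker ψ.toRingHom = N.map j.toRingHom := by
      refine Eq.trans (Algebra.TensorProduct.lTensor_ker (Ideal.Quotient.mkₐ k' N) Ideal.Quotient.mk_surjective) ?_
      congr 1
      exact Ideal.Quotient.mkₐ_ker k' N
    constructor
    intro y hy
    obtain ⟨z, rfl⟩ := hψ y
    obtain ⟨n, hn⟩ := hy
    have h1 : z ^ n ∈ nilradical (P ⊗[k'] (k' ⊗[k] K)) := by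
      have h2 : z ^ n ∈ RingHom.ker ψ.toRingHom := by
        rw [RingHom.mem_ker, map_pow]
        exact hn
      rw [hker] at h2
      refine (Ideal.map_le_iff_le_comap.mpr ?_) h2
      exact fun a ha => mem_nilradical.mpr ((mem_nilradical.mp ha).map j.toRingHom)
    have h3 : z ∈ RingHom.ker ψ.toRingHom := by
      rw [hker]
      obtain ⟨l, hl⟩ := mem_nilradical.mp h1
      exact hnil (mem_nilradical.mpr ⟨n * l, by rw [pow_mul, hl]⟩)
    exact h3
  exact isGeometricallyReduced_descend (P := P)

theorem exists_ext (k K : Type u) [Field k] [Field K] [Algebra k K] [Algebra.EssFiniteType k K] :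
    ∃ (k' : Type u) (_ : Field k') (_ : Algebra k k'), FiniteDimensional k k' ∧ IsPurelyInseparable k k' ∧
      ∀ (m : Ideal (k' ⊗[k] K)), m.IsMaximal → Algebra.IsGeometricallyReduced k' ((k' ⊗[k] K) ⧸ m) := by
  classical
  let P := perfectClosure k (AlgebraicClosure k)
  have := isNoetherianRing_perfect (k := k) (K := K) (P := ↥P)
  obtain ⟨s, hs⟩ := IsNoetherian.noetherian (nilradical (↥P ⊗[k] K))
  choose S hS using fun x : ↥P ⊗[k] K => TensorProduct.exists_finset x
  let T : Set (AlgebraicClosure k) := ↑((s.biUnion fun x => (S x).image fun i => (i.1 : AlgebraicClosure k)))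
  have hTP : IntermediateField.adjoin k T ≤ P := by
    rw [IntermediateField.adjoin_le_iff]
    intro a ha
    obtain ⟨x, -, hx⟩ := Finset.mem_biUnion.mp ha
    obtain ⟨i, -, rfl⟩ := Finset.mem_image.mp hx
    exact i.1.2
  let k' := IntermediateField.adjoin k T
  have hfd : FiniteDimensional k k' :=
    IntermediateField.finiteDimensional_adjoin fun a _ => Algebra.IsIntegral.isIntegral a
  have hpi : IsPurelyInseparable k k' := (le_perfectClosure_iff _ _ _).mp hTP
  refine ⟨↥k', inferInstance, inferInstance, hfd, hpi, fun m hm => ?_⟩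
  obtain rfl := maximal_le_nilradical m
  let ι : ↥k' →ₐ[k] ↥P := IntermediateField.inclusion hTP
  let _ : Algebra k' P := ι.toRingHom.toAlgebra
  have : IsScalarTower k k' P := .of_algebraMap_eq fun c => (ι.commutes c).symm
  refine of_nilradical_defined (P := ↥P) s hs fun x hx => ?_
  refine ⟨∑ i ∈ (S x).attach, (⟨(i.1.1 : AlgebraicClosure k), IntermediateField.subset_adjoin k T
    (Finset.mem_biUnion.mpr ⟨x, hx, Finset.mem_image.mpr ⟨i.1, i.2, rfl⟩⟩)⟩ : ↥k') ⊗ₜ[k] i.1.2, ?_⟩
  conv_rhs => rw [hS x, ← Finset.sum_attach]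
  rw [TensorProduct.tmul_sum, map_sum]
  refine Finset.sum_congr rfl fun i _ => ?_
  rw [Algebra.TensorProduct.cancelBaseChange_tmul, Algebra.smul_def, mul_one]
  rfl

end Groth.Agent.H52.FBase.PurInsepRed
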