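import Groth.Agent.H52.FBase.GRFinite
import Groth.Agent.H52.Ass.RedMod

/-!
Reduced modules under extensions of the base field and products over a field.
-/

universe u

open CategoryTheory CategoryTheory.Limits AlgebraicGeometry TensorProduct IsLocalRing

namespace Groth.Agent.H52.FBase.ReducedModBC

open Groth.Agent.H52.FBase.GRFinite Groth.Agent.H52.Ass.RedMod Groth.Agent.Lib
open Groth.Agent.H52.Ass.FlatTensor Groth.Agent.H52.Ass.FlatTensorScheme Groth.Agent.H52.Ass.FlatTensorProd

variable {k : Type u} [Field k] {X : Scheme.{u}} [IsLocallyNoetherian X] (f : X ⟶ Spec (CommRingCat.of k))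
  (F : X.Modules)

omit [IsLocallyNoetherian X] in
theorem isField_stalk_spec (s : Spec (CommRingCat.of k)) :
    IsField ((Spec (CommRingCat.of k)).presheaf.stalk s) := by
  let p : Ideal k := PrimeSpectrum.asIdeal (R := k) s
  have hp : p.IsPrime := s.isPrime
  have hp0 : p ≤ ⊥ := ((Ideal.eq_bot_or_top p).resolve_right hp.ne_top).le
  have h1 : IsField (Localization.AtPrime p) := by
    rw [IsLocalRing.isField_iff_maximalIdeal_eq, ← Localization.AtPrime.map_eq_maximalIdeal, eq_bot_iff]
    exact (Ideal.map_mono hp0).trans Ideal.map_bot.le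
  exact MulEquiv.isField h1 (Spec.stalkIso (CommRingCat.of k) s).commRingCatIsoToRingEquiv.toMulEquiv

omit [IsLocallyNoetherian X] in
theorem flat_bcπ (K : Type u) [Field K] [Algebra k K] : Flat (_root_.FBase.bcπ f K) :=
  inferInstanceAs (Flat (pullback.fst f (Spec.map (CommRingCat.ofHom (algebraMap k K)))))

theorem isLocallyNoetherian_bc (k' : Type u) [Field k'] [Algebra k k'] [FiniteDimensional k k'] :
    IsLocallyNoetherian (_root_.FBase.bc f k') := by
  have : LocallyOfFiniteType (Spec.map (CommRingCat.ofHom (algebraMap k k'))) :=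
    (HasRingHomProperty.Spec_iff (P := @LocallyOfFiniteType)).mpr (RingHom.finiteType_algebraMap.mpr inferInstance)
  have : LocallyOfFiniteType (pullback.fst f (Spec.map (CommRingCat.ofHom (algebraMap k k')))) :=
    MorphismProperty.of_isPullback (P := @LocallyOfFiniteType) (IsPullback.of_hasPullback f _).flip this
  have h2 : IsLocallyNoetherian (pullback f (Spec.map (CommRingCat.ofHom (algebraMap k k')))) :=
    LocallyOfFiniteType.isLocallyNoetherian (pullback.fst f (Spec.map (CommRingCat.ofHom (algebraMap k k'))))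
  exact h2

theorem isReducedMod_of_finite
    (h : ∀ (k' : Type u) [Field k'] [Algebra k k'] [FiniteDimensional k k'] [IsPurelyInseparable k k'],
      AssSch.IsReducedMod ((Scheme.Modules.pullback (_root_.FBase.bcπ f k')).obj F)) :
    AssSch.IsReducedMod F ∧ ∀ x ∈ AssSch.Ass F, Algebra.IsGeometricallyReduced k (Kx f x) := by
  have hF : AssSch.IsReducedMod F := by
    have : IsIso (Spec.map (CommRingCat.ofHom (algebraMap k k))) := by
      rw [Algebra.algebraMap_self, CommRingCat.ofHom_id, Spec.map_id]
      infer_instance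
    have : IsIso (_root_.FBase.bcπ f k) :=
      inferInstanceAs (IsIso (pullback.fst f (Spec.map (CommRingCat.ofHom (algebraMap k k)))))
    have := isLocallyNoetherian_bc f k
    exact isReducedMod_of_iso (_root_.FBase.bcπ f k) F (h k)
  refine ⟨hF, fun x hx => isGeometricallyReduced_of_finite fun k' _ _ _ _ => ?_⟩
  refine isReduced_of_fields f x k' fun a => ?_
  have := isLocallyNoetherian_bc f k'
  have := flat_bcπ f k'
  exact isField_of_isReducedMod (_root_.FBase.bcπ f k') F (h k') hx (hF.2 x hx) a (exists_pow_eq_bot_fiber f x k' a)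

theorem isReducedMod_bc (hF : AssSch.IsReducedMod F)
    (hGR : ∀ x ∈ AssSch.Ass F, Algebra.IsGeometricallyReduced k (Kx f x))
    (K : Type u) [Field K] [Algebra k K] [IsLocallyNoetherian (_root_.FBase.bc f K)] :
    AssSch.IsReducedMod ((Scheme.Modules.pullback (_root_.FBase.bcπ f K)).obj F) := by
  have := flat_bcπ f K
  refine isReducedMod_pullback (_root_.FBase.bcπ f K) F hF fun x hx a => ?_
  have := hGR x hx
  exact isReduced_fiber f x K a

section Prod

variable {Y : Scheme.{u}} [IsLocallyNoetherian Y] (g : Y ⟶ Spec (CommRingCat.of k))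
  [IsLocallyNoetherian (pullback f g)] (G : Y.Modules)

omit [IsLocallyNoetherian X] [IsLocallyNoetherian Y] [IsLocallyNoetherian (pullback f g)] in
theorem isReduced_T (x : X) (y : Y) [Algebra.IsGeometricallyReduced k (Kx f x)] :
    IsReduced (pullback (X.fromSpecResidueField x ≫ f) (Y.fromSpecResidueField y ≫ g)) := by
  let e : pullback (X.fromSpecResidueField x ≫ f) (Y.fromSpecResidueField y ≫ g) ≅
      Spec (CommRingCat.of (Kx f x ⊗[k] Kx g y)) :=
    pullback.congrHom rfl (specMap_ψ g y).symm ≪≫ isoT f x (Kx g y)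
  have := GeomRed.isReduced_tensor (k := k) (A := Kx f x) (B := Kx g y)
  have : IsReduced (Spec (CommRingCat.of (Kx f x ⊗[k] Kx g y))) := inferInstance
  exact isReduced_of_isOpenImmersion e.hom

omit [IsLocallyNoetherian X] [IsLocallyNoetherian Y] [IsLocallyNoetherian (pullback f g)] in
theorem isFlatOver_field : FlatMod.IsFlatOver g G := by
  intro y
  let := FlatMod.moduleStalkOver g G y
  show Module.Flat ((Spec (CommRingCat.of k)).presheaf.stalk (g y)) (G.presheaf.stalk y)
  have hf := isField_stalk_spec (k := k) (g y)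
  let := hf.toField
  infer_instance

theorem isReducedMod_prod (hF : AssSch.IsReducedMod F) (hG : AssSch.IsReducedMod G)
    (hGR : ∀ x ∈ AssSch.Ass F, Algebra.IsGeometricallyReduced k (Kx f x)) :
    AssSch.IsReducedMod (prodMod f g F G) := by
  have hflat := isFlatOver_field g G
  have hS : ∀ s : Spec (CommRingCat.of k), s ∈ AssSch.Ass (Coh.structureModule (Spec (CommRingCat.of k))) := by
    intro s
    refine (Groth.Agent.Lib.AssPt.Basic.isAssPoint_structure_iff s).mpr
      (Groth.Agent.H52.FBase.NoEmb.maxAssoc_iff.mpr ⟨1, one_ne_zero, fun a ha => ⟨1, ?_⟩⟩)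
    have hfld := isField_stalk_spec (k := k) s
    rw [IsLocalRing.isField_iff_maximalIdeal_eq.mp hfld] at ha
    rw [pow_one, mul_one]
    exact ha
  refine ⟨noEmbedded_prod f g F G hflat hF.1 fun x _ a ha b hb hba => ?_, fun z hz => ?_⟩
  · exact (g.fiberι (f x)).isEmbedding.injective
      (hG.1 _ ((ass_iff_of_flat g G hflat _ a).mpr ⟨hS _, ha⟩) _
        ((ass_iff_of_flat g G hflat _ b).mpr ⟨hS _, hb⟩) (hba.map (g.fiberι (f x)).continuous))
  obtain ⟨hx, y', hy', hy'G, hass⟩ := (mem_ass_prod_iff f g F G hflat z).mp hz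
  have hy : pullback.snd f g z ∈ AssSch.Ass G := hy' ▸ (ass_iff_of_flat g G hflat _ y').mpr ⟨hS _, hy'G⟩
  obtain ⟨eF⟩ := pullback_stalk_equiv (pullback.fst f g) F z (hF.2 _ hx)
  obtain ⟨eG⟩ := pullback_stalk_equiv (pullback.snd f g) G z (hG.2 _ hy)
  let S := (pullback f g).presheaf.stalk z
  let I := mI (pullback.fst f g) z
  let J := mI (pullback.snd f g) z
  let e1 : (prodMod f g F G).presheaf.stalk z ≃ₗ[S]
      ((Scheme.Modules.pullback (pullback.fst f g)).obj F).presheaf.stalk z ⊗[S]
        ((Scheme.Modules.pullback (pullback.snd f g)).obj G).presheaf.stalk z :=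
    DerivedOX.TensorSheaf.tensorStalk z _ _
  let q : S →ₗ[S] (S ⧸ J) ⧸ (I • (⊤ : Submodule S (S ⧸ J))) :=
    (I • (⊤ : Submodule S (S ⧸ J))).mkQ ∘ₗ Submodule.mkQ J
  have hq : Function.Surjective q := (Submodule.mkQ_surjective _).comp (Submodule.mkQ_surjective _)
  have hker : LinearMap.ker q = fibIdeal f g z := by
    rw [LinearMap.ker_comp, Submodule.ker_mkQ, ← J.range_mkQ, ← Submodule.map_top, ← Submodule.map_smul'',
      Submodule.comap_map_mkQ, Ideal.smul_eq_mul, Ideal.mul_top]
    exact sup_comm _ _
  rw [(e1.trans ((TensorProduct.congr eF eG).trans ((TensorProduct.quotTensorEquivQuotSMul _ I).trans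
    ((LinearMap.quotKerEquivOfSurjective q hq).symm.trans (Submodule.quotEquivOfEq _ _ hker))))).length_eq,
    length_quot_eq_one]
  obtain ⟨t, ht⟩ : z ∈ Set.range (tmap f g (pullback.fst f g z) (pullback.snd f g z)) := by
    rw [range_tmap]; exact ⟨rfl, rfl⟩
  have := hGR _ hx
  have := isReduced_T f g (pullback.fst f g z) (pullback.snd f g z)
  suffices _root_.IsReduced (S ⧸ fibIdeal f g z) by
    rw [eq_maximal_of_socle hass]
    exact maximalIdeal.isMaximal _
  have hred : _root_.IsReduced ((pullback f g).presheaf.stalk (tmap f g (pullback.fst f g z) (pullback.snd f g z) t) ⧸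
      fibIdeal f g (tmap f g (pullback.fst f g z) (pullback.snd f g z) t)) := by
    rw [← ker_stalkMap_tmap]
    exact isReduced_of_injective _
      (RingHom.kerLift_injective ((tmap f g (pullback.fst f g z) (pullback.snd f g z)).stalkMap t).hom)
  rw [ht] at hred
  exact hred

end Prod

end Groth.Agent.H52.FBase.ReducedModBC
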