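import Mathlib.AlgebraicGeometry.Geometrically.Reduced
import Mathlib.AlgebraicGeometry.Pullbacks
import Mathlib.RingTheory.TensorProduct.Free
import Mathlib.RingTheory.LocalRing.ResidueField.Ideal

/-!
The product of a geometrically reduced scheme with a reduced scheme is reduced.
-/

universe u

open CategoryTheory CategoryTheory.Limits AlgebraicGeometry TensorProduct

namespace Groth.Agent.H52.FBase.ReducedProd

theorem isReduced_tensor {k A B : Type u} [Field k] [CommRing A] [CommRing B] [Algebra k A]
    [Algebra k B] [_root_.IsReduced B]
    (h : ∀ (K : Type u) [Field K] [Algebra k K], _root_.IsReduced (A ⊗[k] K)) :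
    _root_.IsReduced (A ⊗[k] B) := by
  classical
  let e := Module.Free.chooseBasis k A
  constructor
  intro x hx
  apply (TensorProduct.equivFinsuppOfBasisLeft e (N := B)).injective
  rw [map_zero]
  ext i
  apply IsReduced.eq_zero
  rw [← mem_nilradical, nilradical_eq_sInf, Ideal.mem_sInf]
  intro p (hp : p.IsPrime)
  let φ : B →ₐ[k] p.ResidueField := IsScalarTower.toAlgHom k B p.ResidueField
  have := h p.ResidueField
  have h0 : Algebra.TensorProduct.map (AlgHom.id k A) φ x = 0 := (hx.map _).eq_zero
  have key : ∀ y : A ⊗[k] B,
      TensorProduct.equivFinsuppOfBasisLeft e (Algebra.TensorProduct.map (AlgHom.id k A) φ y) i =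
        φ (TensorProduct.equivFinsuppOfBasisLeft e y i) := by
    intro y
    induction y using TensorProduct.induction_on with
    | zero => simp
    | tmul a b => simp
    | add a b ha hb => simp [ha, hb]
  have := key x
  rw [h0, map_zero, Finsupp.zero_apply] at this
  exact Ideal.algebraMap_residueField_eq_zero.mp this.symm

theorem isReduced_pullback_spec {k : Type u} [Field k] {A B : CommRingCat.{u}}
    (φ : CommRingCat.of k ⟶ A) (χ : CommRingCat.of k ⟶ B) [_root_.IsReduced B]
    (h : ∀ (K : Type u) [Field K] [Algebra k K],
      IsReduced (pullback (Spec.map φ) (Spec.map (CommRingCat.ofHom (algebraMap k K))))) :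
    IsReduced (pullback (Spec.map φ) (Spec.map χ)) := by
  let _ : Algebra k A := φ.hom.toAlgebra
  let _ : Algebra k B := χ.hom.toAlgebra
  have hT : _root_.IsReduced (A ⊗[k] B) := isReduced_tensor fun K _ _ => by
    have := h K
    have : IsReduced (pullback (Spec.map (CommRingCat.ofHom (algebraMap k A)))
        (Spec.map (CommRingCat.ofHom (algebraMap k K)))) := this
    exact (affine_isReduced_iff _).mp (isReduced_of_isOpenImmersion (pullbackSpecIso k A K).inv)
  have : IsReduced (Spec (CommRingCat.of (A ⊗[k] B))) := (affine_isReduced_iff _).mpr hT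
  exact isReduced_of_isOpenImmersion (pullbackSpecIso k A B).hom

theorem isReduced_pullback {k : Type u} [Field k] {X S : Scheme.{u}}
    (f : X ⟶ Spec (CommRingCat.of k)) (g : S ⟶ Spec (CommRingCat.of k)) [GeometricallyReduced f]
    [IsReduced S] : IsReduced (pullback f g) := by
  apply +allowSynthFailures @IsReduced.of_openCover
    (𝒰 := Scheme.Pullback.openCoverOfLeftRight X.affineCover S.affineCover f g)
  intro ij
  have hS : IsReduced (S.affineCover.X ij.2) := isReduced_of_isOpenImmersion (S.affineCover.f ij.2)
  have hB := (affine_isReduced_iff _).mp hS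
  have key := isReduced_pullback_spec (Spec.preimage (X.affineCover.f ij.1 ≫ f))
    (Spec.preimage (S.affineCover.f ij.2 ≫ g)) fun K _ _ => by
      let σ := Spec.map (CommRingCat.ofHom (algebraMap k K))
      have : IsReduced (pullback f σ) :=
        GeometricallyReduced.geometrically_isReduced _ _ _ (.of_hasPullback _ _)
      have := isReduced_of_isOpenImmersion (pullback.snd (X.affineCover.f ij.1) (pullback.fst f σ))
      have : IsReduced (pullback (X.affineCover.f ij.1 ≫ f) σ) := isReduced_of_isOpenImmersion
        (pullbackRightPullbackFstIso f σ (X.affineCover.f ij.1)).inv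
      rw [Spec.map_preimage]
      exact this
  rw [Spec.map_preimage, Spec.map_preimage] at key
  exact key

end Groth.Agent.H52.FBase.ReducedProd
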